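import Groth.Agent.DTorsLib.GammaIso
import Groth.Agent.DerLib.KInjUse
import Groth.Agent.DerLib.KInjEnough
import Groth.Agent.IndCohLib.Derived

/-!
# The derived torsion functor and complexes with torsion cohomology
-/

set_option autoImplicit false
set_option linter.style.haveILetI false
set_option maxHeartbeats 800000

universe u

open CategoryTheory CategoryTheory.Limits AlgebraicGeometry TopologicalSpace Opposite FSch
open Groth.Agent
open FModLib (MSec RSec mres rres)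

noncomputable section

attribute [local instance] HasDerivedCategory.standard

namespace DTorsLib

variable {𝔛 : Sys.{u}} (hloc : 𝔛.IsLocNoethFormal)

theorem gammaτ_app (K : CochainComplex (ModF 𝔛 hloc.1) ℤ) :
    (FTors.gammaτ (FTors.openIdealFam 𝔛 hloc.1)).app ((HomotopyCategory.quotient _ _).obj K) =
      DerivedCategory.Qh.map ((HomotopyCategory.quotient _ _).map (gammaCxι hloc K)) := by
  show (FTors.gammaτ0 (FTors.openIdealFam 𝔛 hloc.1)).app K = _
  simp only [FTors.gammaτ0, NatTrans.comp_app, Functor.whiskerRight_app, Functor.associator_inv_app,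
    Functor.associator_hom_app, Functor.leftUnitor_hom_app, Category.id_comp, Category.comp_id]
  refine Eq.trans ?_ (congrArg (fun a => DerivedCategory.Qh.map ((HomotopyCategory.quotient _ _).map a))
    (show (NatTrans.mapHomologicalComplex (FTors.gammaι (FTors.openIdealFam 𝔛 hloc.1)) (ComplexShape.up ℤ)).app K ≫
      (Functor.mapHomologicalComplexIdIso (ModF 𝔛 hloc.1) (ComplexShape.up ℤ)).hom.app K = gammaCxι hloc K from
      HomologicalComplex.hom_ext _ _ fun n => Category.comp_id _))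
  refine (congrArg (fun q => q ≫ _) (DerivedCategory.Qh.map_id _)).trans ((Category.id_comp _).trans ?_)
  exact (DerivedCategory.Qh.map_comp _ _).symm.trans
    (congrArg DerivedCategory.Qh.map ((HomotopyCategory.quotient _ _).map_comp _ _).symm)

theorem isIso_gammaTι_app {M : ModF 𝔛 hloc.1} (hM : FTors.IsTorsF 𝔛 hloc.1 M) :
    IsIso ((FTors.gammaTι 𝔛 hloc.1).app M) := by
  haveI : Mono ((FTors.gammaTι 𝔛 hloc.1).app M) :=
    _root_.ModSiteLib.mono_of_injective_ap _ fun U a b hab => Subtype.ext hab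
  haveI : Epi ((FTors.gammaTι 𝔛 hloc.1).app M) := epi_of_loc_surjective hloc _ fun U x p hp =>
    ⟨U, le_rfl, ⟨x, hM U x⟩, hp, (gammaι_val hloc U _).trans (IndCohLib.mres_self M x).symm⟩
  exact isIso_of_mono_of_epi _

theorem isTors_gammaT (M : ModF 𝔛 hloc.1) : FTors.IsTorsF 𝔛 hloc.1 ((FTors.gammaT 𝔛 hloc.1).obj M) := by
  refine (IndCohLib.isTors_iff hloc).2 fun U x p hp => ?_
  haveI : Mono ((FTors.gammaTι 𝔛 hloc.1).app M) :=
    _root_.ModSiteLib.mono_of_injective_ap _ fun V a b hab => Subtype.ext hab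
  obtain ⟨W, h, n, hpW, hn⟩ := (IndCohLib.tors_iff hloc _).1 x.2 p hp
  exact ⟨W, h, n, hpW, IndCohLib.killed_of_inj hloc ((FTors.gammaTι 𝔛 hloc.1).app M) hn⟩

theorem gammaT_map_ι (M : ModF 𝔛 hloc.1) :
    (FTors.gammaT 𝔛 hloc.1).map ((FTors.gammaTι 𝔛 hloc.1).app M) =
      (FTors.gammaTι 𝔛 hloc.1).app ((FTors.gammaT 𝔛 hloc.1).obj M) := by
  haveI : Mono ((FTors.gammaTι 𝔛 hloc.1).app M) :=
    _root_.ModSiteLib.mono_of_injective_ap _ fun V a b hab => Subtype.ext hab
  exact (cancel_mono ((FTors.gammaTι 𝔛 hloc.1).app M)).1 ((FTors.gammaTι 𝔛 hloc.1).naturality _)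

theorem isTors_homology (K : CochainComplex (ModF 𝔛 hloc.1) ℤ) (hK : ∀ n, FTors.IsTorsF 𝔛 hloc.1 (K.X n))
    (n : ℤ) : FTors.IsTorsF 𝔛 hloc.1 (K.homology n) :=
  IndCohLib.isTors_of_epi hloc (K.homologyπ n) (IndCohLib.isTors_of_mono hloc (K.iCycles n) (hK n))

/-- The cohomology of a complex as an object of the derived category. -/
def hModIso (K : CochainComplex (ModF 𝔛 hloc.1) ℤ) (n : ℤ) :
    SiteCmp.HMod (DerivedCategory.Qh.obj ((HomotopyCategory.quotient _ _).obj K)) n ≅ K.homology n :=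
  (DerivedCategory.homologyFunctorFactorsh (ModF 𝔛 hloc.1) n).app _ ≪≫
    (HomotopyCategory.homologyFunctorFactors (ModF 𝔛 hloc.1) (ComplexShape.up ℤ) n).app K

theorem isDTorsF_Qh_iff (K : CochainComplex (ModF 𝔛 hloc.1) ℤ) :
    FTors.IsDTorsF 𝔛 hloc.1 (DerivedCategory.Qh.obj ((HomotopyCategory.quotient _ _).obj K)) ↔
      ∀ n, FTors.IsTorsF 𝔛 hloc.1 (K.homology n) :=
  forall_congr' fun n =>
    ⟨IndCohLib.isTors_of_iso hloc (hModIso hloc K n), IndCohLib.isTors_of_iso hloc (hModIso hloc K n).symm⟩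

theorem isDTorsF_of_iso {E F : DerivedCategory (ModF 𝔛 hloc.1)} (e : E ≅ F)
    (h : FTors.IsDTorsF 𝔛 hloc.1 E) : FTors.IsDTorsF 𝔛 hloc.1 F := fun n =>
  IndCohLib.isTors_of_iso hloc ((DerivedCategory.homologyFunctor (ModF 𝔛 hloc.1) n).mapIso e) (h n)

/-- Objects of the derived category as K-injective complexes of injective modules. -/
theorem exists_kInjective (E : DerivedCategory (ModF 𝔛 hloc.1)) :
    ∃ I : CochainComplex (ModF 𝔛 hloc.1) ℤ, I.IsKInjective ∧ (∀ n, Injective (I.X n)) ∧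
      Nonempty (DerivedCategory.Qh.obj ((HomotopyCategory.quotient _ _).obj I) ≅ E) := by
  obtain ⟨I, f, hI, hf, hinj⟩ := DerLib.KInjRes.exists_resolution (DerivedCategory.Q.objPreimage E)
  haveI : QuasiIso f := (HomologicalComplex.mem_quasiIso_iff _).1 hf.2
  exact ⟨I, hI, hinj, ⟨(DerivedCategory.quotientCompQhIso _).app I ≪≫ (asIso (DerivedCategory.Q.map f)).symm ≪≫
    DerivedCategory.Q.objObjPreimageIso E⟩⟩

theorem isIso_gammaτ_of_injective (I : CochainComplex (ModF 𝔛 hloc.1) ℤ) [∀ n, Injective (I.X n)]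
    (h : ∀ n, FTors.IsTorsF 𝔛 hloc.1 (I.homology n)) :
    IsIso ((FTors.gammaτ (FTors.openIdealFam 𝔛 hloc.1)).app ((HomotopyCategory.quotient _ _).obj I)) := by
  rw [gammaτ_app hloc I]
  exact Localization.inverts DerivedCategory.Qh (HomotopyCategory.quasiIso (ModF 𝔛 hloc.1) (ComplexShape.up ℤ)) _
    ((HomotopyCategory.quotient_map_mem_quasiIso_iff _).2
      ((HomologicalComplex.mem_quasiIso_iff _).2 (quasiIso_gammaCxι hloc h)))

theorem isIso_gammaτ_of_tors (K : CochainComplex (ModF 𝔛 hloc.1) ℤ) (h : ∀ n, FTors.IsTorsF 𝔛 hloc.1 (K.X n)) :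
    IsIso ((FTors.gammaτ (FTors.openIdealFam 𝔛 hloc.1)).app ((HomotopyCategory.quotient _ _).obj K)) := by
  rw [gammaτ_app hloc K]
  haveI : ∀ n, IsIso ((gammaCxι hloc K).f n) := fun n => isIso_gammaTι_app hloc (h n)
  haveI : IsIso (gammaCxι hloc K) := HomologicalComplex.Hom.isIso_of_components _
  exact Functor.map_isIso DerivedCategory.Qh _

variable [FTors.HasRgammaT 𝔛 hloc.1]

/-- The comparison of the torsion functor with its derived functor. -/
abbrev gUnit : FTors.gammaKh (FTors.openIdealFam 𝔛 hloc.1) ⟶ DerivedCategory.Qh ⋙ FTors.RgammaT 𝔛 hloc.1 :=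
  (FTors.gammaKh (FTors.openIdealFam 𝔛 hloc.1)).totalRightDerivedUnit DerivedCategory.Qh
    (HomotopyCategory.quasiIso (ModF 𝔛 hloc.1) (ComplexShape.up ℤ))

theorem gUnit_ε (X : HomotopyCategory (ModF 𝔛 hloc.1) (ComplexShape.up ℤ)) :
    (gUnit hloc).app X ≫ (FTors.RgammaTε 𝔛 hloc.1).app (DerivedCategory.Qh.obj X) =
      (FTors.gammaτ (FTors.openIdealFam 𝔛 hloc.1)).app X := by
  refine ((FTors.RgammaT 𝔛 hloc.1).rightDerived_fac_app (gUnit hloc)
    (HomotopyCategory.quasiIso (ModF 𝔛 hloc.1) (ComplexShape.up ℤ)) (𝟭 _)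
    (FTors.gammaτ (FTors.openIdealFam 𝔛 hloc.1) ≫ (Functor.rightUnitor DerivedCategory.Qh).inv) X).trans ?_
  exact Category.comp_id _

theorem isIso_gUnit (I : CochainComplex (ModF 𝔛 hloc.1) ℤ) [I.IsKInjective] :
    IsIso ((gUnit hloc).app ((HomotopyCategory.quotient _ _).obj I)) :=
  DerLib.KInjDerived.isIso_app (FTors.RgammaT 𝔛 hloc.1) (gUnit hloc) (DerLib.KInjDerived.enoughKInj _) I

/-- **The derived torsion of any complex has torsion cohomology.** -/
theorem isDTorsF_rgammaT (E : DerivedCategory (ModF 𝔛 hloc.1)) :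
    FTors.IsDTorsF 𝔛 hloc.1 ((FTors.RgammaT 𝔛 hloc.1).obj E) := by
  obtain ⟨I, hI, -, ⟨e⟩⟩ := exists_kInjective hloc E
  haveI := isIso_gUnit hloc I
  refine isDTorsF_of_iso hloc ((FTors.RgammaT 𝔛 hloc.1).mapIso e) (isDTorsF_of_iso hloc
    (asIso ((gUnit hloc).app ((HomotopyCategory.quotient _ _).obj I))) ?_)
  exact (isDTorsF_Qh_iff hloc (gammaCx hloc I)).2
    (isTors_homology hloc (gammaCx hloc I) fun n => isTors_gammaT hloc (I.X n))

/-- **Complexes with torsion cohomology are their own derived torsion.** -/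
theorem isIso_rgammaTε {E : DerivedCategory (ModF 𝔛 hloc.1)} (hE : FTors.IsDTorsF 𝔛 hloc.1 E) :
    IsIso ((FTors.RgammaTε 𝔛 hloc.1).app E) := by
  obtain ⟨I, hI, hinj, ⟨e⟩⟩ := exists_kInjective hloc E
  rw [← NatTrans.isIso_app_iff_of_iso _ e]
  haveI := isIso_gUnit hloc I
  haveI := isIso_gammaτ_of_injective hloc I ((isDTorsF_Qh_iff hloc I).1 (isDTorsF_of_iso hloc e.symm hE))
  exact IsIso.of_isIso_fac_left (gUnit_ε hloc ((HomotopyCategory.quotient _ _).obj I))

theorem isIso_rgammaTε_iff (E : DerivedCategory (ModF 𝔛 hloc.1)) :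
    FTors.IsDTorsF 𝔛 hloc.1 E ↔ IsIso ((FTors.RgammaTε 𝔛 hloc.1).app E) :=
  ⟨isIso_rgammaTε hloc, fun _ => isDTorsF_of_iso hloc (asIso ((FTors.RgammaTε 𝔛 hloc.1).app E))
    (isDTorsF_rgammaT hloc E)⟩

theorem isIso_gUnit_of_tors (K : CochainComplex (ModF 𝔛 hloc.1) ℤ) (h : ∀ n, FTors.IsTorsF 𝔛 hloc.1 (K.X n)) :
    IsIso ((gUnit hloc).app ((HomotopyCategory.quotient _ _).obj K)) := by
  haveI := isIso_gammaτ_of_tors hloc K h
  haveI := isIso_rgammaTε hloc ((isDTorsF_Qh_iff hloc K).2 (isTors_homology hloc K h))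
  exact IsIso.of_isIso_fac_right (gUnit_ε hloc ((HomotopyCategory.quotient _ _).obj K))

theorem rgammaT_map_ε (F : DerivedCategory (ModF 𝔛 hloc.1)) :
    (FTors.RgammaT 𝔛 hloc.1).map ((FTors.RgammaTε 𝔛 hloc.1).app F) =
      (FTors.RgammaTε 𝔛 hloc.1).app ((FTors.RgammaT 𝔛 hloc.1).obj F) := by
  let R := FTors.RgammaT 𝔛 hloc.1
  let ε := FTors.RgammaTε 𝔛 hloc.1
  obtain ⟨I, hI, -, ⟨e⟩⟩ := exists_kInjective hloc F
  suffices h : R.map (ε.app (DerivedCategory.Qh.obj ((HomotopyCategory.quotient _ _).obj I))) =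
      ε.app (R.obj (DerivedCategory.Qh.obj ((HomotopyCategory.quotient _ _).obj I))) by
    refine (cancel_epi (R.map (R.map e.hom))).1 (Eq.trans ?_ (ε.naturality (R.map e.hom)).symm)
    rw [← R.map_comp]
    refine (congrArg R.map (ε.naturality e.hom)).trans ?_
    exact (R.map_comp _ _).trans (congrArg (fun q => q ≫ R.map e.hom) h)
  let qI := (HomotopyCategory.quotient _ _).obj I
  let qG := (HomotopyCategory.quotient _ _).obj (gammaCx hloc I)
  let t : qG ⟶ qI := (HomotopyCategory.quotient _ _).map (gammaCxι hloc I)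
  haveI := isIso_gUnit hloc I
  haveI := isIso_gUnit_of_tors hloc (gammaCx hloc I) fun n => isTors_gammaT hloc (I.X n)
  have hmap : (FTors.gammaKh (FTors.openIdealFam 𝔛 hloc.1)).map t =
      (FTors.gammaτ (FTors.openIdealFam 𝔛 hloc.1)).app qG := by
    refine Eq.trans ?_ (gammaτ_app hloc (gammaCx hloc I)).symm
    show DerivedCategory.Qh.map ((HomotopyCategory.quotient _ _).map
      (((FTors.gammaT 𝔛 hloc.1).mapHomologicalComplex _).map (gammaCxι hloc I))) = _
    refine congrArg (fun a => DerivedCategory.Qh.map ((HomotopyCategory.quotient _ _).map a)) ?_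
    exact HomologicalComplex.hom_ext _ _ fun n => gammaT_map_ι hloc (I.X n)
  have h1 : R.map (DerivedCategory.Qh.map t) = ε.app (DerivedCategory.Qh.obj qG) ≫ (gUnit hloc).app qI := by
    refine (cancel_epi ((gUnit hloc).app qG)).1 ?_
    refine ((gUnit hloc).naturality t).symm.trans ?_
    rw [hmap, ← gUnit_ε hloc qG]
    exact Category.assoc _ _ _
  have h2 : (gUnit hloc).app qI ≫ ε.app (DerivedCategory.Qh.obj qI) = DerivedCategory.Qh.map t :=
    (gUnit_ε hloc qI).trans (gammaτ_app hloc I)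
  refine (cancel_epi (R.map ((gUnit hloc).app qI))).1 ?_
  refine ((R.map_comp _ _).symm.trans ((congrArg R.map h2).trans h1)).trans ?_
  exact (ε.naturality ((gUnit hloc).app qI)).symm

/-- **The derived torsion is a coreflection.** -/
theorem comp_rgammaTε_bijective (E F : DerivedCategory (ModF 𝔛 hloc.1)) (hE : FTors.IsDTorsF 𝔛 hloc.1 E) :
    Function.Bijective (fun φ : E ⟶ (FTors.RgammaT 𝔛 hloc.1).obj F => φ ≫ (FTors.RgammaTε 𝔛 hloc.1).app F) := by
  haveI := isIso_rgammaTε hloc hE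
  let R := FTors.RgammaT 𝔛 hloc.1
  let ε := FTors.RgammaTε 𝔛 hloc.1
  have key : ∀ φ : E ⟶ R.obj F, φ = inv (ε.app E) ≫ R.map (φ ≫ ε.app F) := fun φ => by
    refine Eq.symm ((congrArg (fun q => inv (ε.app E) ≫ q) ?_).trans (IsIso.inv_hom_id_assoc (ε.app E) φ))
    exact (R.map_comp _ _).trans ((congrArg (fun q => R.map φ ≫ q) (rgammaT_map_ε hloc F)).trans (ε.naturality φ))
  refine ⟨fun φ φ' h => ?_, fun ψ => ⟨inv (ε.app E) ≫ R.map ψ, ?_⟩⟩
  · exact (key φ).trans ((congrArg (fun q => inv (ε.app E) ≫ R.map q) h).trans (key φ').symm)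
  · show (inv (ε.app E) ≫ R.map ψ) ≫ ε.app F = ψ
    exact (Category.assoc _ _ _).trans ((congrArg (fun q => inv (ε.app E) ≫ q) (ε.naturality ψ)).trans
      (IsIso.inv_hom_id_assoc (ε.app E) ψ))

end DTorsLib

end
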