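import Groth.Agent.DTorsLib.DivClosure
import Groth.Agent.DTorsLib.Derived
import Groth.Agent.FiltSectLib.Coprod
import Groth.Agent.IndCohLib.ModelChange
import Groth.Agent.IndCohLib.Coprod
import Groth.Agent.IndCohLib.QCTClosure

/-!
# The derived torsion functor commutes with coproducts
-/

set_option autoImplicit false
set_option linter.style.haveILetI false
set_option maxHeartbeats 800000
set_option synthInstance.maxHeartbeats 80000

universe u

open CategoryTheory CategoryTheory.Limits AlgebraicGeometry TopologicalSpace Opposite FSch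
open Groth.Agent

noncomputable section

attribute [local instance] HasDerivedCategory.standard

namespace DTorsLib

variable {𝔛 : Sys.{u}} (hloc : 𝔛.IsLocNoethFormal)

theorem quasiIso_iff_acyclic_cone {A : Type*} [Category A] [Abelian A] {K L : CochainComplex A ℤ} (f : K ⟶ L) :
    QuasiIso f ↔ (CochainComplex.mappingCone f).Acyclic := by
  rw [← HomotopyCategory.quotient_obj_mem_subcategoryAcyclic_iff_acyclic]
  refine Iff.trans ?_ ((HomotopyCategory.subcategoryAcyclic A).trW_iff_of_distinguished _
    (HomotopyCategory.mappingCone_triangleh_distinguished f))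
  rw [← HomotopyCategory.quasiIso_eq_trW_subcategoryAcyclic]
  exact Iff.trans (HomologicalComplex.mem_quasiIso_iff f).symm (HomotopyCategory.quotient_map_mem_quasiIso_iff f).symm

theorem isTors_isZero {M : ModF 𝔛 hloc.1} (h : IsZero M) : FTors.IsTorsF 𝔛 hloc.1 M :=
  IndCohLib.isTors_of_isZero hloc h

/-- The torsion functor preserves quasi-isomorphisms of complexes of divisible modules. -/
theorem quasiIso_gammaT_map {K L : CochainComplex (ModF 𝔛 hloc.1) ℤ} (f : K ⟶ L) [QuasiIso f]
    (hK : ∀ i, IsDiv hloc (K.X i)) (hL : ∀ i, IsDiv hloc (L.X i)) :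
    QuasiIso (((FTors.gammaT 𝔛 hloc.1).mapHomologicalComplex (ComplexShape.up ℤ)).map f) := by
  let C := CochainComplex.mappingCone f
  have hC : C.Acyclic := (quasiIso_iff_acyclic_cone f).1 inferInstance
  have hdiv : ∀ i, IsDiv hloc (C.X i) := fun i => isDiv_of_iso hloc
    (HomologicalComplex.homotopyCofiber.XIsoBiprod f i (i + 1) rfl).symm
    (isDiv_biprod hloc (hK (i + 1)) (hL i))
  have hq : QuasiIso (gammaCxι hloc C) :=
    quasiIso_gammaCxι_of_isDiv hloc hdiv fun n => isTors_isZero hloc ((hC n).isZero_homology)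
  rw [quasiIso_iff_acyclic_cone]
  intro n
  have hz : IsZero ((gammaCx hloc C).homology n) :=
    (hC n).isZero_homology.of_iso (@isoOfQuasiIsoAt _ _ _ _ _ _ _ (gammaCxι hloc C) n _ _ (hq.quasiIsoAt n))
  rw [HomologicalComplex.exactAt_iff_isZero_homology]
  exact hz.of_iso ((HomologicalComplex.homologyFunctor _ _ n).mapIso
    (CochainComplex.mappingCone.mapHomologicalComplexIso f (FTors.gammaT 𝔛 hloc.1))).symm

variable [FTors.HasRgammaT 𝔛 hloc.1]

/-- The derived torsion of a complex of divisible modules is its torsion. -/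
theorem isIso_gUnit_of_isDiv (K : CochainComplex (ModF 𝔛 hloc.1) ℤ) (hK : ∀ i, IsDiv hloc (K.X i)) :
    IsIso ((gUnit hloc).app ((HomotopyCategory.quotient _ _).obj K)) := by
  obtain ⟨I, f, hI, hf, hinj⟩ := DerLib.KInjRes.exists_resolution K
  haveI : QuasiIso f := (HomologicalComplex.mem_quasiIso_iff _).1 hf.2
  haveI := quasiIso_gammaT_map hloc f hK fun i => haveI := hinj i; isDiv_of_injective hloc (I.X i)
  haveI := isIso_gUnit hloc I
  let t := (HomotopyCategory.quotient (ModF 𝔛 hloc.1) (ComplexShape.up ℤ)).map f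
  haveI : IsIso (DerivedCategory.Qh.map t) := Localization.inverts DerivedCategory.Qh
    (HomotopyCategory.quasiIso (ModF 𝔛 hloc.1) (ComplexShape.up ℤ)) _
    ((HomotopyCategory.quotient_map_mem_quasiIso_iff f).2 ((HomologicalComplex.mem_quasiIso_iff _).2 inferInstance))
  haveI : IsIso ((FTors.gammaKh (FTors.openIdealFam 𝔛 hloc.1)).map t) := by
    show IsIso (DerivedCategory.Qh.map ((HomotopyCategory.quotient _ _).map
      (((FTors.gammaT 𝔛 hloc.1).mapHomologicalComplex _).map f)))
    exact Localization.inverts DerivedCategory.Qh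
      (HomotopyCategory.quasiIso (ModF 𝔛 hloc.1) (ComplexShape.up ℤ)) _
      ((HomotopyCategory.quotient_map_mem_quasiIso_iff _).2 ((HomologicalComplex.mem_quasiIso_iff _).2 inferInstance))
  haveI : IsIso ((DerivedCategory.Qh ⋙ FTors.RgammaT 𝔛 hloc.1).map t) :=
    inferInstanceAs (IsIso ((FTors.RgammaT 𝔛 hloc.1).map (DerivedCategory.Qh.map t)))
  haveI : IsIso ((FTors.gammaKh (FTors.openIdealFam 𝔛 hloc.1)).map t ≫
      (gUnit hloc).app ((HomotopyCategory.quotient _ _).obj I)) := inferInstance
  exact IsIso.of_isIso_fac_right ((gUnit hloc).naturality t).symm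

/-- The comparison on complexes. -/
def compCx : (FTors.gammaT 𝔛 hloc.1).mapHomologicalComplex (ComplexShape.up ℤ) ⋙ DerivedCategory.Q ⟶
    DerivedCategory.Q ⋙ FTors.RgammaT 𝔛 hloc.1 :=
  Functor.whiskerLeft _ (DerivedCategory.quotientCompQhIso (ModF 𝔛 hloc.1)).inv ≫
    (Functor.associator _ _ _).inv ≫
    Functor.whiskerRight ((FTors.gammaT 𝔛 hloc.1).mapHomotopyCategoryFactors (ComplexShape.up ℤ)).inv
      DerivedCategory.Qh ≫
    (Functor.associator _ _ _).hom ≫
    Functor.whiskerLeft (HomotopyCategory.quotient (ModF 𝔛 hloc.1) (ComplexShape.up ℤ)) (gUnit hloc) ≫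
    (Functor.associator _ _ _).inv ≫
    Functor.whiskerRight (DerivedCategory.quotientCompQhIso (ModF 𝔛 hloc.1)).hom _

theorem isIso_compCx (K : CochainComplex (ModF 𝔛 hloc.1) ℤ) (hK : ∀ i, IsDiv hloc (K.X i)) :
    IsIso ((compCx hloc).app K) := by
  haveI := isIso_gUnit_of_isDiv hloc K hK
  simp only [compCx, NatTrans.comp_app, Functor.whiskerLeft_app, Functor.whiskerRight_app,
    Functor.associator_inv_app, Functor.associator_hom_app]
  infer_instance

/-- **The derived torsion functor commutes with coproducts.** -/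
theorem isIso_sigmaDesc_rgammaT {ι : Type u} (K : ι → DerivedCategory (ModF 𝔛 hloc.1)) [HasCoproduct K]
    [HasCoproduct fun a => (FTors.RgammaT 𝔛 hloc.1).obj (K a)] :
    IsIso (Sigma.desc fun a => (FTors.RgammaT 𝔛 hloc.1).map (Sigma.ι K a)) := by
  let A := ModF 𝔛 hloc.1
  haveI : HasFiniteBiproducts A := Abelian.hasFiniteBiproducts
  haveI : AB4OfSize.{u} A := AB4.of_AB5 A
  haveI := preservesCoproducts_gammaT hloc ι
  choose P hP hinj e using fun a => exists_kInjective hloc (K a)
  let eP : ∀ a, DerivedCategory.Q.obj (P a) ≅ K a := fun a =>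
    (DerivedCategory.quotientCompQhIso A).symm.app (P a) ≪≫ (e a).some
  refine FiltSectLib.isIso_sigmaDesc_of_homology (FTors.RgammaT 𝔛 hloc.1) K P eP fun m => ?_
  let C := Discrete.functor P
  let c : Cocone C := Cofan.mk (∐ P) (Sigma.ι P)
  let hc : IsColimit c := coproductIsCoproduct P
  let G := (FTors.gammaT 𝔛 hloc.1).mapHomologicalComplex (ComplexShape.up ℤ)
  haveI : ∀ j, IsIso ((compCx hloc).app (C.obj j)) := fun j =>
    isIso_compCx hloc _ fun i => @isDiv_of_injective _ hloc ((P j.as).X i) (hinj j.as i)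
  haveI : IsIso ((compCx hloc).app c.pt) := isIso_compCx hloc _ fun i =>
    isDiv_coproduct hloc (C ⋙ HomologicalComplex.eval A (ComplexShape.up ℤ) i) _
      (isColimitOfPreserves (HomologicalComplex.eval A (ComplexShape.up ℤ) i) hc) fun j => hinj j.as i
  let hG : IsColimit (G.mapCocone c) := HomologicalComplex.isColimitOfEval _ _ fun i =>
    isColimitOfPreserves (FTors.gammaT 𝔛 hloc.1)
      (isColimitOfPreserves (HomologicalComplex.eval A (ComplexShape.up ℤ) i) hc)
  let h1 : IsColimit ((DerivedCategory.Q ⋙ DerivedCategory.homologyFunctor A m).mapCocone (G.mapCocone c)) :=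
    IsColimit.mapCoconeEquiv (DerivedCategory.homologyFunctorFactors A m).symm
      (FreeResLib.isColimitHomology _ hG m)
  let H := DerivedCategory.homologyFunctor A m
  let η : G ⋙ DerivedCategory.Q ⋙ H ⟶ DerivedCategory.Q ⋙ FTors.RgammaT 𝔛 hloc.1 ⋙ H :=
    (Functor.associator _ _ _).inv ≫ Functor.whiskerRight (compCx hloc) H ≫ (Functor.associator _ _ _).hom
  have hη : ∀ K', IsIso ((compCx hloc).app K') → IsIso (η.app K') := fun K' _ => by
    simp only [η, NatTrans.comp_app, Functor.whiskerRight_app, Functor.associator_inv_app,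
      Functor.associator_hom_app]
    infer_instance
  haveI : ∀ j, IsIso ((Functor.whiskerLeft C η).app j) := fun j => hη (C.obj j) inferInstance
  haveI : IsIso (η.app c.pt) := hη c.pt inferInstance
  exact ⟨(FiltSectLib.isColimit_target (c := (G ⋙ DerivedCategory.Q ⋙ H).mapCocone c)
    (c' := (DerivedCategory.Q ⋙ FTors.RgammaT 𝔛 hloc.1 ⋙ H).mapCocone c) (Functor.whiskerLeft C η) (η.app c.pt)
    (fun j => η.naturality (c.ι.app j)) (IsColimit.ofIsoColimit h1 (Cocone.ext (Iso.refl _) fun j => Category.comp_id _))).some⟩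

/-- **The derived torsion functor has a right adjoint.** -/
theorem isLeftAdjoint_rgammaT : (FTors.RgammaT 𝔛 hloc.1).IsLeftAdjoint := by
  let RF := FTors.RgammaT 𝔛 hloc.1
  obtain ⟨_, _⟩ := DerLib.KInjDerived.exists_isTriangulated_map (DerLib.KInjDerived.enoughKInj _)
    (FTors.gammaT 𝔛 hloc.1) RF (gUnit hloc)
  refine IndCohLib.isLeftAdjoint_of_preservesCoproducts RF fun ι => ⟨fun {K} => ?_⟩
  let E := fun a : ι => K.obj ⟨a⟩
  haveI : HasCoproduct E := DerLib.KInjUse.hasCoproduct E
  haveI : HasCoproduct fun a => RF.obj (E a) := DerLib.KInjUse.hasCoproduct _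
  haveI : IsIso (sigmaComparison RF E) := isIso_sigmaDesc_rgammaT hloc E
  haveI := PreservesCoproduct.of_iso_comparison RF E
  exact preservesColimit_of_iso_diagram RF (Discrete.natIso fun _ => Iso.refl _ : Discrete.functor E ≅ K)

end DTorsLib

end
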