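import Groth.Agent.DTorsLib.Divide
import Mathlib.Algebra.Homology.HomologicalComplex

/-!
# Cycles of complexes of injective modules with torsion cohomology are torsion up to boundaries
-/

set_option autoImplicit false
set_option linter.style.haveILetI false
set_option maxHeartbeats 800000

universe u

open CategoryTheory CategoryTheory.Limits AlgebraicGeometry TopologicalSpace Opposite FSch
open FModLib (MSec RSec mres rres lc oK)

noncomputable section

namespace DTorsLib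

variable {𝔛 : Sys.{u}} (hloc : 𝔛.IsLocNoethFormal) {M N : ModF 𝔛 hloc.1} {V W : (𝔛.X 0).Opens}

/-- A section locally killed by a power of each function of a finite list. -/
def TorsL (L : List (RSec (𝔛.Osh hloc.1) V)) (hW : W ≤ V) (x : MSec M W) : Prop :=
  ∀ p ∈ W, ∃ (W' : (𝔛.X 0).Opens) (h : W' ≤ W) (e : ℕ), p ∈ W' ∧
    ∀ z ∈ L, (rres (𝔛.Osh hloc.1) (h.trans hW) z ^ e • mres M h x : MSec M W') = 0

theorem pow_smul_mono {a : RSec (𝔛.Osh hloc.1) W} {x : MSec M W} {d e : ℕ} (hde : d ≤ e)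
    (hx : (a ^ d • x : MSec M W) = 0) : (a ^ e • x : MSec M W) = 0 := by
  rw [show e = (e - d) + d by omega, pow_add, mul_smul, hx, smul_zero]

theorem mres_pow_smul {W' : (𝔛.X 0).Opens} (h : W' ≤ W) (hW : W ≤ V) (a : RSec (𝔛.Osh hloc.1) V) (e : ℕ)
    (x : MSec M W) :
    mres M h (rres (𝔛.Osh hloc.1) hW a ^ e • x) =
      (rres (𝔛.Osh hloc.1) (h.trans hW) a ^ e • mres M h x : MSec M W') := by
  refine (IndCohLib.mres_smul hloc h _ x).trans (congrArg (fun q => (q • mres M h x : MSec M W')) ?_)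
  exact (map_pow ((𝔛.Osh hloc.1).obj.map (homOfLE h).op).hom _ e).trans
    (congrArg (fun q => q ^ e) (FModLib.rres_rres h hW a))

theorem eq_zero_res {W' W'' : (𝔛.X 0).Opens} (h : W' ≤ W) (h' : W'' ≤ W') (hW : W ≤ V)
    (a : RSec (𝔛.Osh hloc.1) V) (e : ℕ) (x : MSec M W)
    (hx : (rres (𝔛.Osh hloc.1) (h.trans hW) a ^ e • mres M h x : MSec M W') = 0) :
    (rres (𝔛.Osh hloc.1) ((h'.trans h).trans hW) a ^ e • mres M (h'.trans h) x : MSec M W'') = 0 := by
  rw [← FModLib.mres_mres M h' h x]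
  exact (mres_pow_smul hloc h' (h.trans hW) a e _).symm.trans ((congrArg (mres M h') hx).trans (map_zero _))

theorem mres_sub {W' : (𝔛.X 0).Opens} (h : W' ≤ W) (a b : MSec M W) :
    mres M h (a - b) = (mres M h a - mres M h b : MSec M W') :=
  map_sub _ a b

theorem pow_smul_sub (c : RSec (𝔛.Osh hloc.1) W) (e : ℕ) (a b : MSec M W) :
    (c ^ e • (a - b) : MSec M W) = c ^ e • a - c ^ e • b :=
  smul_sub (c ^ e) a b

theorem pow_smul_smul (c : RSec (𝔛.Osh hloc.1) W) (d e : ℕ) (a : MSec M W) :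
    (c ^ d • (c ^ e • a : MSec M W) : MSec M W) = c ^ (d + e) • a := by
  rw [pow_add, mul_smul]

variable {L : List (RSec (𝔛.Osh hloc.1) V)} {hW : W ≤ V} {x y : MSec M W}

theorem torsL_nil : TorsL hloc [] hW x := fun _ hp => ⟨W, le_rfl, 0, hp, fun _ hz => absurd hz List.not_mem_nil⟩

theorem TorsL.res (hx : TorsL hloc L hW x) {W' : (𝔛.X 0).Opens} (h : W' ≤ W) :
    TorsL hloc L (h.trans hW) (mres M h x) := fun p hp => by
  obtain ⟨W₁, h₁, e, hp₁, he⟩ := hx p (h hp)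
  refine ⟨W₁ ⊓ W', inf_le_right, e, ⟨hp₁, hp⟩, fun z hz => ?_⟩
  rw [FModLib.mres_mres]
  exact eq_zero_res hloc h₁ inf_le_left hW z e x (he z hz)

theorem TorsL.sub (hx : TorsL hloc L hW x) (hy : TorsL hloc L hW y) : TorsL hloc L hW (x - y) := fun p hp => by
  obtain ⟨W₁, h₁, d, hp₁, hd⟩ := hx p hp
  obtain ⟨W₂, h₂, e, hp₂, he⟩ := hy p hp
  refine ⟨W₁ ⊓ W₂, inf_le_left.trans h₁, max d e, ⟨hp₁, hp₂⟩, fun z hz => ?_⟩
  rw [mres_sub hloc, pow_smul_sub hloc, pow_smul_mono hloc (le_max_left d e) (eq_zero_res hloc h₁ inf_le_left hW z d x (hd z hz)),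
    pow_smul_mono hloc (le_max_right d e) (eq_zero_res hloc h₂ inf_le_right hW z e y (he z hz)), sub_zero]

theorem TorsL.smul (hx : TorsL hloc L hW x) (a : RSec (𝔛.Osh hloc.1) W) :
    TorsL hloc L hW (a • x : MSec M W) := fun p hp => by
  obtain ⟨W', h, e, hp', he⟩ := hx p hp
  refine ⟨W', h, e, hp', fun z hz => ?_⟩
  refine (congrArg (fun q : MSec M W' => (_ • q : MSec M W')) (IndCohLib.mres_smul hloc h a x)).trans ?_
  exact (smul_comm _ _ (mres M h x)).trans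
    ((congrArg (fun q : MSec M W' => (_ • q : MSec M W')) (he z hz)).trans (smul_zero _))

theorem TorsL.app (hx : TorsL hloc L hW x) (θ : M ⟶ N) : TorsL hloc L hW (θ.val.app (op W) x) := fun p hp => by
  obtain ⟨W', h, e, hp', he⟩ := hx p hp
  refine ⟨W', h, e, hp', fun z hz => ?_⟩
  rw [← IndCohLib.app_mres hloc θ h x]
  exact ((θ.val.app (op W')).hom.map_smul _ _).symm.trans ((congrArg _ (he z hz)).trans (map_zero _))

theorem TorsL.cons (hx : TorsL hloc L hW x) (t : RSec (𝔛.Osh hloc.1) V) (e : ℕ)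
    (ht : (rres (𝔛.Osh hloc.1) hW t ^ e • x : MSec M W) = 0) : TorsL hloc (t :: L) hW x := fun p hp => by
  obtain ⟨W', h, d, hp', hd⟩ := hx p hp
  refine ⟨W', h, max d e, hp', fun z hz => ?_⟩
  rcases List.mem_cons.1 hz with rfl | hz
  · exact pow_smul_mono hloc (le_max_right d e)
      ((mres_pow_smul hloc h hW z e x).symm.trans ((congrArg (mres M h) ht).trans (map_zero _)))
  · exact pow_smul_mono hloc (le_max_left d e) (hd z hz)

theorem TorsL.tail {t : RSec (𝔛.Osh hloc.1) V} (hx : TorsL hloc (t :: L) hW x) : TorsL hloc L hW x := fun p hp => by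
  obtain ⟨W', h, e, hp', he⟩ := hx p hp
  exact ⟨W', h, e, hp', fun z hz => he z (List.mem_cons_of_mem t hz)⟩

/-- Locally, a bounded power of a function times a section torsion for the list is a high multiple of one such. -/
theorem exists_torsL_divide (hV : IsAffineOpen V) (hM : IsDiv hloc M) (hx : TorsL hloc L hW x)
    (t : RSec (𝔛.Osh hloc.1) V) (n : ℕ) {p : 𝔛.X 0} (hp : p ∈ W) :
    ∃ (W' : (𝔛.X 0).Opens) (h : W' ≤ W) (d : ℕ) (y : MSec M W'), p ∈ W' ∧ TorsL hloc L (h.trans hW) y ∧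
      (rres (𝔛.Osh hloc.1) (h.trans hW) t ^ (d + n) • y : MSec M W') =
        (rres (𝔛.Osh hloc.1) (h.trans hW) t ^ d • mres M h x : MSec M W') := by
  classical
  obtain ⟨W₁, h₁, e, hp₁, he⟩ := hx p hp
  let z := fun l : L.toFinset => (l.1 : RSec (𝔛.Osh hloc.1) V) ^ e
  have hpow : ∀ {U : (𝔛.X 0).Opens} (h : U ≤ V) a, rres (𝔛.Osh hloc.1) h (a ^ e) = rres (𝔛.Osh hloc.1) h a ^ e :=
    fun {U} h a => map_pow ((𝔛.Osh hloc.1).obj.map (homOfLE h).op).hom a e
  obtain ⟨W', h', y, hp', hy, hy'⟩ := hM V hV _ inferInstance z t W₁ (h₁.trans hW) (mres M h₁ x) (fun l => by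
    rw [hpow]
    exact he l.1 (List.mem_toFinset.1 l.2)) n p hp₁
  refine ⟨W', h'.trans h₁, divBound hloc hV z t, y, hp', fun q hq => ⟨W', le_rfl, e, hq, fun z hz => ?_⟩, ?_⟩
  · rw [IndCohLib.mres_self, ← hpow]
    exact hy ⟨z, List.mem_toFinset.2 hz⟩
  · rw [← FModLib.mres_mres M h' h₁ x]
    exact hy'

/-- Torsion sections for the tails of a list are locally divisible by its entries, up to bounded powers. -/
def DivList (M : ModF 𝔛 hloc.1) (L₀ : List (RSec (𝔛.Osh hloc.1) V)) : Prop :=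
  ∀ (t : RSec (𝔛.Osh hloc.1) V) (L : List (RSec (𝔛.Osh hloc.1) V)), (t :: L) <:+ L₀ →
    ∀ (W : (𝔛.X 0).Opens) (hW : W ≤ V) (x : MSec M W), TorsL hloc L hW x → ∀ (n : ℕ), ∀ p ∈ W,
      ∃ (W' : (𝔛.X 0).Opens) (h : W' ≤ W) (d : ℕ) (y : MSec M W'), p ∈ W' ∧ TorsL hloc L (h.trans hW) y ∧
        (rres (𝔛.Osh hloc.1) (h.trans hW) t ^ (d + n) • y : MSec M W') =
          (rres (𝔛.Osh hloc.1) (h.trans hW) t ^ d • mres M h x : MSec M W')

theorem DivList.tail {t : RSec (𝔛.Osh hloc.1) V} (h : DivList hloc M (t :: L)) : DivList hloc M L :=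
  fun t' L' hs => h t' L' (hs.trans (List.suffix_cons t L))

theorem divList_of_isDiv (hV : IsAffineOpen V) (hM : IsDiv hloc M) (L₀ : List (RSec (𝔛.Osh hloc.1) V)) :
    DivList hloc M L₀ :=
  fun t _ _ _ _ _ hx n _ hp => exists_torsL_divide hloc hV hM hx t n hp

section Complex

variable (K : CochainComplex (ModF 𝔛 hloc.1) ℤ)

/-- The differential on sections. -/
abbrev dd (i j : ℤ) (U : (𝔛.X 0).Opens) (a : MSec (K.X i) U) : MSec (K.X j) U :=
  (K.d i j).val.app (op U) a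

theorem dd_dd (i j k : ℤ) {U : (𝔛.X 0).Opens} (a : MSec (K.X i) U) : dd hloc K j k U (dd hloc K i j U a) = 0 :=
  IndCohLib.app_comp hloc (K.d i j) (K.d j k) 0 (K.d_comp_d i j k) a

theorem dd_smul (i j : ℤ) {U : (𝔛.X 0).Opens} (c : RSec (𝔛.Osh hloc.1) U) (a : MSec (K.X i) U) :
    dd hloc K i j U (c • a) = (c • dd hloc K i j U a : MSec (K.X j) U) :=
  ((K.d i j).val.app (op U)).hom.map_smul c a

theorem dd_add (i j : ℤ) {U : (𝔛.X 0).Opens} (a b : MSec (K.X i) U) :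
    dd hloc K i j U (a + b) = (dd hloc K i j U a + dd hloc K i j U b : MSec (K.X j) U) :=
  map_add _ a b

theorem dd_sub (i j : ℤ) {U : (𝔛.X 0).Opens} (a b : MSec (K.X i) U) :
    dd hloc K i j U (a - b) = (dd hloc K i j U a - dd hloc K i j U b : MSec (K.X j) U) :=
  map_sub _ a b

/-- Every cycle is locally, after multiplication by a power of each function, a boundary. -/
def TorsCycles (L : List (RSec (𝔛.Osh hloc.1) V)) : Prop :=
  ∀ z ∈ L, ∀ (W : (𝔛.X 0).Opens) (hW : W ≤ V) (i j : ℤ), i + 1 = j → ∀ x : MSec (K.X j) W,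
    (∀ k, dd hloc K j k W x = 0) → ∀ p ∈ W, ∃ (W' : (𝔛.X 0).Opens) (h : W' ≤ W) (m : ℕ) (w : MSec (K.X i) W'),
      p ∈ W' ∧ dd hloc K i j W' w = (rres (𝔛.Osh hloc.1) (h.trans hW) z ^ m • mres (K.X j) h x : MSec (K.X j) W')

variable {K}

theorem dd_mres (i j : ℤ) {U U' : (𝔛.X 0).Opens} (h : U' ≤ U) (a : MSec (K.X i) U) :
    dd hloc K i j U' (mres (K.X i) h a) = mres (K.X j) h (dd hloc K i j U a) :=
  IndCohLib.app_mres hloc (K.d i j) h a

/-- **For a complex of injective modules with torsion cohomology, cycles are locally torsion up to boundaries, and torsion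
boundaries are locally boundaries of torsion sections.** -/
theorem exists_torsL (L : List (RSec (𝔛.Osh hloc.1) V)) (hI : ∀ i, DivList hloc (K.X i) L)
    (H : TorsCycles hloc K L) :
    (∀ (W : (𝔛.X 0).Opens) (hW : W ≤ V) (i j : ℤ), i + 1 = j → ∀ x : MSec (K.X j) W,
      (∀ k, dd hloc K j k W x = 0) → ∀ p ∈ W, ∃ (W' : (𝔛.X 0).Opens) (h : W' ≤ W) (y : MSec (K.X i) W'),
        p ∈ W' ∧ TorsL hloc L (h.trans hW) (mres (K.X j) h x - dd hloc K i j W' y)) ∧
    ∀ (W : (𝔛.X 0).Opens) (hW : W ≤ V) (i j : ℤ), i + 1 = j → ∀ x : MSec (K.X j) W, TorsL hloc L hW x →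
      ∀ w : MSec (K.X i) W, dd hloc K i j W w = x → ∀ p ∈ W, ∃ (W' : (𝔛.X 0).Opens) (h : W' ≤ W)
        (w' : MSec (K.X i) W'), p ∈ W' ∧ TorsL hloc L (h.trans hW) w' ∧ dd hloc K i j W' w' = mres (K.X j) h x := by
  induction L with
  | nil =>
    refine ⟨fun W hW i j _ x _ p hp => ⟨W, le_rfl, 0, hp, torsL_nil hloc⟩, fun W hW i j _ x _ w hw p hp =>
      ⟨W, le_rfl, w, hp, torsL_nil hloc, by rw [IndCohLib.mres_self]; exact hw⟩⟩
  | cons t L ih =>
    obtain ⟨hS, hJ⟩ := ih (fun i => (hI i).tail hloc) fun z hz => H z (List.mem_cons_of_mem t hz)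
    refine ⟨fun W hW i j hij x hx p hp => ?_, fun W hW i j hij x hxt w hw p hp => ?_⟩
    · obtain ⟨W₁, h₁, y₁, hp₁, hy₁⟩ := hS W hW i j hij x hx p hp
      let x₁ := mres (K.X j) h₁ x - dd hloc K i j W₁ y₁
      have hx₁ : ∀ k, dd hloc K j k W₁ x₁ = 0 := fun k => by
        refine (map_sub _ _ _).trans (sub_eq_zero.2 ?_)
        exact ((dd_mres hloc j k h₁ x).trans ((congrArg _ (hx k)).trans (map_zero _))).trans (dd_dd hloc K i j k y₁).symm
      obtain ⟨W₂, h₂, m, w, hp₂, hw⟩ := H t List.mem_cons_self W₁ (h₁.trans hW) i j hij x₁ hx₁ p hp₁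
      obtain ⟨W₃, h₃, w', hp₃, hw't, hw'⟩ := hJ W₂ (h₂.trans (h₁.trans hW)) i j hij _
        ((hy₁.res hloc h₂).smul hloc _) w hw p hp₂
      obtain ⟨W₄, h₄, d, y, hp₄, hyt, hy⟩ := hI i t L (List.suffix_refl _) _ _ _ hw't m p hp₃
      have h42 := h₄.trans h₃
      refine ⟨W₄, h42.trans (h₂.trans h₁), mres (K.X i) (h42.trans h₂) y₁ + y, hp₄, ?_⟩
      have e : mres (K.X j) (h42.trans (h₂.trans h₁)) x - dd hloc K i j W₄ (mres (K.X i) (h42.trans h₂) y₁ + y) =
          mres (K.X j) (h42.trans h₂) x₁ - dd hloc K i j W₄ y := by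
        rw [dd_add hloc, mres_sub hloc, ← dd_mres hloc, FModLib.mres_mres]
        abel
      rw [e]
      refine TorsL.cons hloc (((hy₁.res hloc (h42.trans h₂))).sub hloc (hyt.app hloc _)) t (d + m) ?_
      rw [pow_smul_sub hloc, sub_eq_zero, ← dd_smul hloc, hy, dd_smul hloc, dd_mres hloc, hw',
        FModLib.mres_mres (K.X j) h₄ h₃]
      rw [mres_pow_smul hloc, FModLib.mres_mres, pow_smul_smul hloc]
    · obtain ⟨W₁, h₁, w₁, hp₁, hw₁t, hw₁⟩ := hJ W hW i j hij x (hxt.tail hloc) w hw p hp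
      obtain ⟨W₂, h₂, m, hp₂, hm⟩ := (hxt.res hloc h₁) p hp₁
      let c : ℕ → RSec (𝔛.Osh hloc.1) W₂ := fun a => rres (𝔛.Osh hloc.1) (h₂.trans (h₁.trans hW)) t ^ a
      let w₂ : MSec (K.X i) W₂ := (c m • mres (K.X i) h₂ w₁)
      have hw₂ : ∀ k, dd hloc K i k W₂ w₂ = 0 := fun k => by
        refine (dd_smul hloc K i k _ _).trans ?_
        by_cases hk : (ComplexShape.up ℤ).Rel i k
        · obtain rfl : k = j := by rw [← hij]; exact hk.symm
          rw [dd_mres, hw₁]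
          exact hm t List.mem_cons_self
        · rw [show dd hloc K i k W₂ (mres (K.X i) h₂ w₁) = 0 from
            congr($(congrArg (fun f : K.X i ⟶ K.X k => f.val.app (op W₂)) (K.shape i k hk)) _), smul_zero]
      obtain ⟨W₃, h₃, m', v, hp₃, hv⟩ := H t List.mem_cons_self W₂ (h₂.trans (h₁.trans hW)) (i - 1) i (by omega)
        w₂ hw₂ p hp₂
      obtain ⟨W₄, h₄, v', hp₄, hv't, hv'⟩ := hJ W₃ (h₃.trans (h₂.trans (h₁.trans hW))) (i - 1) i (by omega) _
        ((((hw₁t.res hloc h₂).smul hloc (c m)).res hloc h₃).smul hloc _) v hv p hp₃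
      obtain ⟨W₅, h₅, d, y, hp₅, hyt, hy⟩ := hI (i - 1) t L (List.suffix_refl _) _ _ _ hv't (m' + m) p hp₄
      have h51 := (h₅.trans h₄).trans (h₃.trans h₂)
      refine ⟨W₅, h51.trans h₁, mres (K.X i) h51 w₁ - dd hloc K (i - 1) i W₅ y, hp₅, ?_, ?_⟩
      · refine TorsL.cons hloc ((hw₁t.res hloc h51).sub hloc (hyt.app hloc _)) t (d + (m' + m)) ?_
        rw [pow_smul_sub hloc, sub_eq_zero, ← dd_smul hloc, hy, dd_smul hloc, dd_mres hloc, hv',
          FModLib.mres_mres (K.X i) h₅ h₄]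
        rw [mres_pow_smul hloc, FModLib.mres_mres, pow_smul_smul hloc, mres_pow_smul hloc, FModLib.mres_mres,
          pow_smul_smul hloc, add_assoc]
      · rw [dd_sub hloc, dd_dd hloc K (i - 1) i j y, sub_zero]
        refine (dd_mres hloc i j h51 w₁).trans ?_
        rw [hw₁, FModLib.mres_mres]

end Complex

end DTorsLib

end
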