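import Groth.Agent.DTorsLib.Derived
import Groth.Agent.DerLib.ExactHomology
import Mathlib.Algebra.Homology.DerivedCategory.ExactFunctor
import Mathlib.CategoryTheory.Adjunction.FullyFaithful

/-!
# The derived category of torsion modules
-/

set_option autoImplicit false
set_option linter.style.haveILetI false
set_option maxHeartbeats 800000

universe u

open CategoryTheory CategoryTheory.Limits AlgebraicGeometry TopologicalSpace Opposite FSch
open Groth.Agent

noncomputable section

attribute [local instance] HasDerivedCategory.standard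

namespace DTorsLib

variable {𝔛 : Sys.{u}} (hloc : 𝔛.IsLocNoethFormal)

/-- The torsion functor into torsion modules. -/
def torsR : ModF 𝔛 hloc.1 ⥤ (FTors.IsTorsF 𝔛 hloc.1).FullSubcategory :=
  (FTors.IsTorsF 𝔛 hloc.1).lift (FTors.gammaT 𝔛 hloc.1) (isTors_gammaT hloc)

instance additive_torsR : (torsR hloc).Additive where
  map_add {M N f g} := ObjectProperty.hom_ext _ ((FTors.gammaT 𝔛 hloc.1).map_add)

theorem mono_gammaTι (M : ModF 𝔛 hloc.1) : Mono ((FTors.gammaTι 𝔛 hloc.1).app M) :=
  _root_.ModSiteLib.mono_of_injective_ap _ fun _ _ _ hab => Subtype.ext hab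

/-- The unit. -/
def torsUnit : 𝟭 (FTors.IsTorsF 𝔛 hloc.1).FullSubcategory ⟶ (FTors.IsTorsF 𝔛 hloc.1).ι ⋙ torsR hloc where
  app X :=
    ObjectProperty.homMk (@inv _ _ _ _ ((FTors.gammaTι 𝔛 hloc.1).app X.obj) (isIso_gammaTι_app hloc X.property))
  naturality X Y f := by
    haveI := mono_gammaTι hloc Y.obj
    haveI := isIso_gammaTι_app hloc X.property
    haveI := isIso_gammaTι_app hloc Y.property
    refine ObjectProperty.hom_ext _ ((cancel_mono ((FTors.gammaTι 𝔛 hloc.1).app Y.obj)).1 ?_)
    show (f.hom ≫ inv ((FTors.gammaTι 𝔛 hloc.1).app Y.obj)) ≫ _ =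
      (inv ((FTors.gammaTι 𝔛 hloc.1).app X.obj) ≫ (FTors.gammaT 𝔛 hloc.1).map f.hom) ≫ _
    rw [Category.assoc, IsIso.inv_hom_id, Category.comp_id]
    exact (((Category.assoc _ _ _).trans (congrArg (fun q => inv ((FTors.gammaTι 𝔛 hloc.1).app X.obj) ≫ q)
      ((FTors.gammaTι 𝔛 hloc.1).naturality f.hom))).trans (IsIso.inv_hom_id_assoc _ _)).symm

/-- The torsion functor is right adjoint to the inclusion of torsion modules. -/
def torsAdj : (FTors.IsTorsF 𝔛 hloc.1).ι ⊣ torsR hloc :=
  Adjunction.mkOfUnitCounit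
    { unit := torsUnit hloc
      counit := { app := fun M => (FTors.gammaTι 𝔛 hloc.1).app M
                  naturality := fun _ _ f => (FTors.gammaTι 𝔛 hloc.1).naturality f }
      left_triangle := by
        refine NatTrans.ext (funext fun X => ?_)
        haveI := isIso_gammaTι_app hloc X.property
        simp only [NatTrans.comp_app, Functor.whiskerRight_app, Functor.whiskerLeft_app, Functor.associator_hom_app,
          Category.id_comp, NatTrans.id_app']
        exact IsIso.inv_hom_id ((FTors.gammaTι 𝔛 hloc.1).app X.obj)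
      right_triangle := by
        refine NatTrans.ext (funext fun M => ?_)
        haveI := isIso_gammaTι_app hloc (isTors_gammaT hloc M)
        refine ObjectProperty.hom_ext _ ?_
        simp only [NatTrans.comp_app, Functor.whiskerRight_app, Functor.whiskerLeft_app, Functor.associator_inv_app,
          Category.id_comp, NatTrans.id_app']
        refine Eq.trans ?_ (IsIso.inv_hom_id ((FTors.gammaTι 𝔛 hloc.1).app ((FTors.gammaT 𝔛 hloc.1).obj M)))
        exact congrArg (fun q => inv ((FTors.gammaTι 𝔛 hloc.1).app ((FTors.gammaT 𝔛 hloc.1).obj M)) ≫ q)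
          (gammaT_map_ι hloc M) }

theorem isIso_counit_of_injective (I : CochainComplex (ModF 𝔛 hloc.1) ℤ) [∀ n, Injective (I.X n)]
    (h : ∀ n, FTors.IsTorsF 𝔛 hloc.1 (I.homology n)) [(FTors.IsTorsF 𝔛 hloc.1).ι.Additive] :
    IsIso (DerivedCategory.Qh.map ((DerLib.KInjDerived.mapHomotopyCategoryAdj (torsAdj hloc) (ComplexShape.up ℤ)).counit.app
      ((HomotopyCategory.quotient _ _).obj I))) := by
  have e : (DerLib.KInjDerived.mapHomologicalComplexAdj (torsAdj hloc) (ComplexShape.up ℤ)).counit.app I =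
      gammaCxι hloc I := HomologicalComplex.hom_ext _ _ fun n => by simp [torsAdj, gammaCxι]
  show IsIso (DerivedCategory.Qh.map ((HomotopyCategory.quotient _ _).map
    ((DerLib.KInjDerived.mapHomologicalComplexAdj (torsAdj hloc) (ComplexShape.up ℤ)).counit.app I)))
  refine (congrArg (fun a => IsIso (DerivedCategory.Qh.map ((HomotopyCategory.quotient _ _).map a))) e).mpr ?_
  exact Localization.inverts DerivedCategory.Qh (HomotopyCategory.quasiIso (ModF 𝔛 hloc.1) (ComplexShape.up ℤ)) _
    ((HomotopyCategory.quotient_map_mem_quasiIso_iff _).2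
      ((HomologicalComplex.mem_quasiIso_iff _).2 (quasiIso_gammaCxι hloc (K := I) h)))

variable [(FTors.IsTorsF 𝔛 hloc.1).ContainsZero] [(FTors.IsTorsF 𝔛 hloc.1).IsClosedUnderKernels]
  [(FTors.IsTorsF 𝔛 hloc.1).IsClosedUnderCokernels] [(FTors.IsTorsF 𝔛 hloc.1).IsClosedUnderFiniteProducts]
  [PreservesFiniteLimits (FTors.IsTorsF 𝔛 hloc.1).ι] [PreservesFiniteColimits (FTors.IsTorsF 𝔛 hloc.1).ι]

theorem isIso_of_isIso_mapDerived {X Y : DerivedCategory (FTors.IsTorsF 𝔛 hloc.1).FullSubcategory} (f : X ⟶ Y)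
    [IsIso ((FTors.IsTorsF 𝔛 hloc.1).ι.mapDerivedCategory.map f)] : IsIso f := by
  rw [DerivedCategory.isIso_iff]
  intro n
  let P := FTors.IsTorsF 𝔛 hloc.1
  haveI : IsIso ((DerivedCategory.homologyFunctor _ n).map (P.ι.mapDerivedCategory.map f)) := inferInstance
  have h : IsIso (P.ι.map ((DerivedCategory.homologyFunctor _ n).map f)) :=
    (NatIso.isIso_map_iff (DerLib.ExactHomology.homologyIso P.ι n) f).1 (by assumption)
  exact isIso_of_fully_faithful P.ι _

theorem isDTorsF_mapDerived (X : DerivedCategory (FTors.IsTorsF 𝔛 hloc.1).FullSubcategory) :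
    FTors.IsDTorsF 𝔛 hloc.1 ((FTors.IsTorsF 𝔛 hloc.1).ι.mapDerivedCategory.obj X) := fun n =>
  IndCohLib.isTors_of_iso hloc
    ((DerLib.ExactHomology.homologyIso (FTors.IsTorsF 𝔛 hloc.1).ι n).app X).symm
    ((DerivedCategory.homologyFunctor _ n).obj X).property

/-- **The derived category of torsion modules is the category of complexes with torsion cohomology.** -/
theorem mapDerived_full_faithful_essImage :
    (FTors.IsTorsF 𝔛 hloc.1).ι.mapDerivedCategory.Full ∧ (FTors.IsTorsF 𝔛 hloc.1).ι.mapDerivedCategory.Faithful ∧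
      ∀ G : DerivedCategory (ModF 𝔛 hloc.1),
        (FTors.IsTorsF 𝔛 hloc.1).ι.mapDerivedCategory.essImage G ↔ FTors.IsDTorsF 𝔛 hloc.1 G := by
  let P := FTors.IsTorsF 𝔛 hloc.1
  let F := (torsR hloc).mapHomotopyCategory (ComplexShape.up ℤ) ⋙ DerivedCategory.Qh
  have hA := DerLib.KInjDerived.enoughKInj (ModF 𝔛 hloc.1)
  haveI := DerLib.KInjDerived.hasRightDerivedFunctor F hA
  let RR := F.totalRightDerived DerivedCategory.Qh (HomotopyCategory.quasiIso (ModF 𝔛 hloc.1) (ComplexShape.up ℤ))
  let β := F.totalRightDerivedUnit DerivedCategory.Qh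
    (HomotopyCategory.quasiIso (ModF 𝔛 hloc.1) (ComplexShape.up ℤ))
  let D := DerLib.KInjDerived.derivedAdj (torsAdj hloc) RR β hA
  have hcounit : ∀ G, FTors.IsDTorsF 𝔛 hloc.1 G → IsIso (D.counit.app G) := fun G hG => by
    obtain ⟨I, hI, hinj, ⟨e⟩⟩ := exists_kInjective hloc G
    rw [← NatTrans.isIso_app_iff_of_iso _ e]
    haveI := DerLib.KInjDerived.isRightDerived_comp (G := P.ι) RR β hA
    haveI := DerLib.KInjDerived.isIso_app RR β hA I
    haveI := isIso_counit_of_injective hloc I ((isDTorsF_Qh_iff hloc I).1 (isDTorsF_of_iso hloc e.symm hG))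
    have key := (DerLib.KInjDerived.mapHomotopyCategoryAdj (torsAdj hloc) (ComplexShape.up ℤ)).derivedε_fac_app
      (HomotopyCategory.quasiIso (ModF 𝔛 hloc.1) (ComplexShape.up ℤ)) P.ι.mapDerivedCategoryFactorsh.hom β
      ((HomotopyCategory.quotient (ModF 𝔛 hloc.1) (ComplexShape.up ℤ)).obj I)
    exact IsIso.of_isIso_fac_left key
  haveI : IsIso D.unit := by
    rw [NatTrans.isIso_iff_isIso_app]
    intro X
    haveI := hcounit _ (isDTorsF_mapDerived hloc X)
    haveI : IsIso (P.ι.mapDerivedCategory.map (D.unit.app X) ≫ D.counit.app (P.ι.mapDerivedCategory.obj X)) := by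
      exact (congrArg (fun q => IsIso q) (D.left_triangle_components X)).mpr inferInstance
    haveI : IsIso (P.ι.mapDerivedCategory.map (D.unit.app X)) :=
      IsIso.of_isIso_comp_right _ (D.counit.app (P.ι.mapDerivedCategory.obj X))
    exact isIso_of_isIso_mapDerived hloc (D.unit.app X)
  haveI : P.ι.mapDerivedCategory.Full := D.fullyFaithfulLOfIsIsoUnit.full
  haveI : P.ι.mapDerivedCategory.Faithful := D.fullyFaithfulLOfIsIsoUnit.faithful
  refine ⟨inferInstance, inferInstance, fun G => ⟨?_, fun h => ?_⟩⟩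
  · rintro ⟨X, ⟨e⟩⟩
    exact isDTorsF_of_iso hloc e (isDTorsF_mapDerived hloc X)
  · haveI := hcounit G h
    exact ⟨RR.obj G, ⟨asIso (D.counit.app G)⟩⟩

end DTorsLib

end
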