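import Groth.Agent.DTorsLib.GammaCx
import Groth.Agent.ModSiteLib.PullMono
import Mathlib.Algebra.Homology.QuasiIso
import Mathlib.RingTheory.Noetherian.Nilpotent

/-!
# The torsion subcomplex of a complex of injective modules with torsion cohomology is quasi-isomorphic to it
-/

set_option autoImplicit false
set_option linter.style.haveILetI false
set_option maxHeartbeats 800000

universe u

open CategoryTheory CategoryTheory.Limits AlgebraicGeometry TopologicalSpace Opposite FSch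
open FModLib (MSec RSec mres rres lc oK)

noncomputable section

namespace DTorsLib

variable {𝔛 : Sys.{u}} (hloc : 𝔛.IsLocNoethFormal) {M N : ModF 𝔛 hloc.1} {V W : (𝔛.X 0).Opens}

/-- Finitely many functions over an affine open, nilpotent on every level, measuring torsion. -/
theorem exists_torsion_funcs' (hV : IsAffineOpen V) :
    ∃ L : List (RSec (𝔛.Osh hloc.1) V),
      (∀ z ∈ L, ∀ k, oK hloc.1 k V (z ^ (k + 1)) = 0) ∧
      (∀ (M : ModF 𝔛 hloc.1) (W : (𝔛.X 0).Opens) (hW : W ≤ V) (n : ℕ) (x : MSec M W), IndCohLib.Killed hloc n M x →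
        ∀ z ∈ L, (rres (𝔛.Osh hloc.1) hW z ^ (n + 1) • x : MSec M W) = 0) ∧
      ∀ e : ℕ, ∃ n : ℕ, ∀ (M : ModF 𝔛 hloc.1) (W : (𝔛.X 0).Opens) (hW : W ≤ V) (x : MSec M W),
        (∀ z ∈ L, (rres (𝔛.Osh hloc.1) hW z ^ e • x : MSec M W) = 0) → IndCohLib.Killed hloc n M x := by
  classical
  obtain ⟨I, hN, hI⟩ := FCohLib.exists_adic hloc hV
  obtain ⟨S, hS⟩ := IsNoetherian.noetherian I
  refine ⟨S.toList, fun z hz k => (hI k _).2 (Ideal.pow_mem_pow (hS ▸ Submodule.subset_span (Finset.mem_toList.1 hz)) (k + 1)),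
    fun M W hW n x hx z hz => ?_, fun e => ?_⟩
  · have hzI : z ∈ I := hS ▸ Submodule.subset_span (Finset.mem_toList.1 hz)
    have h0 : oK hloc.1 n V (z ^ (n + 1)) = 0 := (hI n _).2 (Ideal.pow_mem_pow hzI (n + 1))
    have h1 := hx W le_rfl _ (IndCohLib.oK_eq_zero_res hloc n hW h0)
    rw [IndCohLib.mres_self] at h1
    rw [show rres (𝔛.Osh hloc.1) hW z ^ (n + 1) = rres (𝔛.Osh hloc.1) hW (z ^ (n + 1)) from
      (map_pow ((𝔛.Osh hloc.1).obj.map (homOfLE hW).op).hom z (n + 1)).symm]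
    exact h1
  let J : Ideal (RSec (𝔛.Osh hloc.1) V) := Ideal.span ((fun z => z ^ e) '' (S : Set (RSec (𝔛.Osh hloc.1) V)))
  have hle : I ≤ J.radical := by
    rw [← hS]
    refine Submodule.span_le.2 fun z hz => ⟨e, Ideal.subset_span ⟨z, hz, rfl⟩⟩
  obtain ⟨n, hn⟩ := Ideal.exists_pow_le_of_le_radical_of_fg hle ⟨S, hS⟩
  obtain ⟨σ, _, g, hg0, hg⟩ := IndCohLib.exists_ker_gens hloc hV n
  refine ⟨n, fun M W hW x hx => IndCohLib.killed_of_gens hloc hW g hg x fun l => ?_⟩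
  let ρ : RSec (𝔛.Osh hloc.1) V →+* RSec (𝔛.Osh hloc.1) W := ((𝔛.Osh hloc.1).obj.map (homOfLE hW).op).hom
  have hJ : g l ∈ J := hn (Ideal.pow_le_pow_right (Nat.le_succ n) ((hI n _).1 (hg0 l)))
  show (ρ (g l) • x : MSec M W) = 0
  refine Submodule.span_induction ?_ ?_ ?_ ?_ hJ
  · rintro _ ⟨z, hz, rfl⟩
    show (ρ (z ^ e) • x : MSec M W) = 0
    rw [map_pow]
    exact hx z (Finset.mem_toList.2 hz)
  · exact (congrArg (fun q : RSec (𝔛.Osh hloc.1) W => (q • x : MSec M W)) (map_zero ρ)).trans (zero_smul _ x)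
  · intro a b _ _ ha hb
    rw [map_add, add_smul, ha, hb, add_zero]
  · intro a b _ hb
    rw [smul_eq_mul, map_mul, mul_smul, hb, smul_zero]

/-- Finitely many functions over an affine open measuring torsion. -/
theorem exists_torsion_funcs (hV : IsAffineOpen V) :
    ∃ L : List (RSec (𝔛.Osh hloc.1) V),
      (∀ (M : ModF 𝔛 hloc.1) (W : (𝔛.X 0).Opens) (hW : W ≤ V) (n : ℕ) (x : MSec M W), IndCohLib.Killed hloc n M x →
        ∀ z ∈ L, (rres (𝔛.Osh hloc.1) hW z ^ (n + 1) • x : MSec M W) = 0) ∧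
      ∀ e : ℕ, ∃ n : ℕ, ∀ (M : ModF 𝔛 hloc.1) (W : (𝔛.X 0).Opens) (hW : W ≤ V) (x : MSec M W),
        (∀ z ∈ L, (rres (𝔛.Osh hloc.1) hW z ^ e • x : MSec M W) = 0) → IndCohLib.Killed hloc n M x :=
  (exists_torsion_funcs' hloc hV).imp fun _ h => h.2

theorem epi_of_loc_surjective (θ : M ⟶ N)
    (h : ∀ (U : (𝔛.X 0).Opens) (x : MSec N U), ∀ p ∈ U, ∃ (W : (𝔛.X 0).Opens) (hW : W ≤ U) (y : MSec M W),
      p ∈ W ∧ θ.val.app (op W) y = mres N hW x) : Epi θ := by
  refine ⟨fun {P} a b e => SheafOfModules.hom_ext (PresheafOfModules.hom_ext fun U =>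
    ModuleCat.hom_ext (LinearMap.ext fun x => ?_))⟩
  refine sub_eq_zero.1 (FCohLib.eq_zero_of_points P (V := U.unop) _ fun p hp => ?_)
  obtain ⟨W, hW, y, hpW, hy⟩ := h U.unop x p hp
  refine ⟨W, hW, hpW, (map_sub _ _ _).trans (sub_eq_zero.2 ?_)⟩
  refine (IndCohLib.app_mres hloc a hW x).symm.trans (Eq.trans ?_ (IndCohLib.app_mres hloc b hW x))
  rw [← hy]
  exact congr($(congrArg (fun g : M ⟶ P => g.val.app (op W)) e) y)

theorem mono_of_loc_zero (θ : M ⟶ N)
    (h : ∀ (U : (𝔛.X 0).Opens) (x : MSec M U), θ.val.app (op U) x = 0 → ∀ p ∈ U,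
      ∃ (W : (𝔛.X 0).Opens) (hW : W ≤ U), p ∈ W ∧ mres M hW x = 0) : Mono θ :=
  _root_.ModSiteLib.mono_of_injective_ap θ fun U a b hab => sub_eq_zero.1
    (FCohLib.eq_zero_of_points M _ fun p hp => h U _ ((map_sub _ _ _).trans (sub_eq_zero.2 hab)) p hp)

theorem exists_loc_lift_exact {S : ShortComplex (ModF 𝔛 hloc.1)} (hS : S.Exact) {U : (𝔛.X 0).Opens}
    (x : MSec S.X₂ U) (hx : S.g.val.app (op U) x = 0) {p : 𝔛.X 0} (hp : p ∈ U) :
    ∃ (W : (𝔛.X 0).Opens) (hW : W ≤ U) (y : MSec S.X₁ W), p ∈ W ∧ S.f.val.app (op W) y = mres S.X₂ hW x := by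
  obtain ⟨r, hr⟩ := _root_.ModSiteLib.exists_kernel_section S.g U x hx
  haveI : Epi (kernel.lift S.g S.f S.zero) := S.exact_iff_epi_kernel_lift.1 hS
  obtain ⟨W, hW, y, hpW, hy⟩ := IndCohLib.exists_loc_lift hloc (kernel.lift S.g S.f S.zero) r hp
  refine ⟨W, hW, y, hpW, ?_⟩
  refine (IndCohLib.app_comp hloc (kernel.lift S.g S.f S.zero) (kernel.ι S.g) S.f (kernel.lift_ι _ _ _) y).symm.trans ?_
  refine (congrArg _ hy).trans ((IndCohLib.app_mres hloc _ hW r).trans ?_)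
  exact congrArg _ hr

theorem exists_cycle (S : ShortComplex (ModF 𝔛 hloc.1)) {U : (𝔛.X 0).Opens} (x : MSec S.X₂ U)
    (hx : S.g.val.app (op U) x = 0) : ∃ z : MSec S.cycles U, S.iCycles.val.app (op U) z = x := by
  obtain ⟨r, hr⟩ := _root_.ModSiteLib.exists_kernel_section S.g U x hx
  refine ⟨S.cyclesIsoKernel.inv.val.app (op U) r, ?_⟩
  refine (IndCohLib.app_comp hloc _ _ (kernel.ι S.g) ?_ r).trans hr
  simp [ShortComplex.cyclesIsoKernel]

theorem exact_toCycles_homologyπ (S : ShortComplex (ModF 𝔛 hloc.1)) :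
    (ShortComplex.mk S.toCycles S.homologyπ S.toCycles_comp_homologyπ).Exact :=
  ShortComplex.exact_of_g_is_cokernel _ S.homologyIsCokernel

/-- A boundary class is locally a boundary. -/
theorem exists_loc_boundary (S : ShortComplex (ModF 𝔛 hloc.1)) {U : (𝔛.X 0).Opens} (z : MSec S.cycles U)
    (hz : S.homologyπ.val.app (op U) z = 0) {p : 𝔛.X 0} (hp : p ∈ U) :
    ∃ (W : (𝔛.X 0).Opens) (hW : W ≤ U) (w : MSec S.X₁ W), p ∈ W ∧
      S.toCycles.val.app (op W) w = mres S.cycles hW z :=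
  exists_loc_lift_exact hloc (exact_toCycles_homologyπ hloc S) z hz hp

variable (K : CochainComplex (ModF 𝔛 hloc.1) ℤ)

theorem torsCycles_of_isTors (hK : ∀ n, FTors.IsTorsF 𝔛 hloc.1 (K.homology n))
    (L : List (RSec (𝔛.Osh hloc.1) V))
    (hL : ∀ (M : ModF 𝔛 hloc.1) (W : (𝔛.X 0).Opens) (hW : W ≤ V) (n : ℕ) (x : MSec M W), IndCohLib.Killed hloc n M x →
      ∀ z ∈ L, (rres (𝔛.Osh hloc.1) hW z ^ (n + 1) • x : MSec M W) = 0) :
    TorsCycles hloc K L := by
  intro t ht W hW i j hij x hx p hp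
  have hT : FTors.IsTorsF 𝔛 hloc.1 (K.sc' i j (j + 1)).homology :=
    IndCohLib.isTors_of_iso hloc (K.homologyIsoSc' i j (j + 1) (by simp; omega) (by simp)) (hK j)
  let S := K.sc' i j (j + 1)
  obtain ⟨z, hz⟩ := exists_cycle hloc S x (hx (j + 1))
  obtain ⟨W₁, h₁, n, hp₁, hn⟩ := (IndCohLib.isTors_iff hloc).1 hT W (S.homologyπ.val.app (op W) z) p hp
  let c := rres (𝔛.Osh hloc.1) (h₁.trans hW) t ^ (n + 1)
  have h0 : S.homologyπ.val.app (op W₁) (c • mres S.cycles h₁ z : MSec S.cycles W₁) = 0 := by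
    refine ((S.homologyπ.val.app (op W₁)).hom.map_smul c _).trans ?_
    refine Eq.trans ?_ (hL S.homology W₁ (h₁.trans hW) n _ hn t ht)
    exact congrArg (fun q : MSec S.homology W₁ => (c • q : MSec S.homology W₁)) (IndCohLib.app_mres hloc _ h₁ z)
  obtain ⟨W₂, h₂, w, hp₂, hw⟩ := exists_loc_boundary hloc S _ h0 hp₁
  refine ⟨W₂, h₂.trans h₁, n + 1, w, hp₂, ?_⟩
  refine (IndCohLib.app_comp hloc S.toCycles S.iCycles _ S.toCycles_i w).symm.trans ?_
  refine (congrArg _ hw).trans ((IndCohLib.app_mres hloc S.iCycles h₂ _).trans ?_)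
  have h3 : S.iCycles.val.app (op W₁) (c • mres S.cycles h₁ z : MSec S.cycles W₁) =
      (c • mres (K.X j) h₁ x : MSec (K.X j) W₁) := by
    refine ((S.iCycles.val.app (op W₁)).hom.map_smul c _).trans ?_
    exact congrArg (fun q : MSec (K.X j) W₁ => (c • q : MSec (K.X j) W₁))
      ((IndCohLib.app_mres hloc _ h₁ z).trans (congrArg (mres (K.X j) h₁) hz))
  refine (congrArg (mres (K.X j) h₂) h3).trans ((mres_pow_smul hloc h₂ (h₁.trans hW) t (n + 1) _).trans ?_)
  rw [FModLib.mres_mres]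

/-- The torsion subcomplex. -/
abbrev gammaCx : CochainComplex (ModF 𝔛 hloc.1) ℤ :=
  ((FTors.gammaT 𝔛 hloc.1).mapHomologicalComplex (ComplexShape.up ℤ)).obj K

/-- Its inclusion. -/
def gammaCxι : gammaCx hloc K ⟶ K where
  f i := (FTors.gammaTι 𝔛 hloc.1).app (K.X i)
  comm' i j _ := ((FTors.gammaTι 𝔛 hloc.1).naturality (K.d i j)).symm

variable {K}

theorem gammaι_val (U : (𝔛.X 0).Opens) (a : MSec ((FTors.gammaT 𝔛 hloc.1).obj M) U) :
    ((FTors.gammaTι 𝔛 hloc.1).app M).val.app (op U) a = a.1 := rfl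

theorem tors_of_torsL {L : List (RSec (𝔛.Osh hloc.1) V)}
    (hL : ∀ e : ℕ, ∃ n : ℕ, ∀ (M : ModF 𝔛 hloc.1) (W : (𝔛.X 0).Opens) (hW : W ≤ V) (x : MSec M W),
      (∀ z ∈ L, (rres (𝔛.Osh hloc.1) hW z ^ e • x : MSec M W) = 0) → IndCohLib.Killed hloc n M x)
    {hW : W ≤ V} {x : MSec M W} (hx : TorsL hloc L hW x) :
    FTors.IsTorsSect (FTors.openIdealFam 𝔛 hloc.1) M x :=
  (IndCohLib.tors_iff hloc x).2 fun p hp => by
    obtain ⟨W', h, e, hpW, he⟩ := hx p hp
    obtain ⟨n, hn⟩ := hL e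
    exact ⟨W', h, n, hpW, hn M W' (h.trans hW) _ he⟩

theorem torsL_of_tors {L : List (RSec (𝔛.Osh hloc.1) V)}
    (hL : ∀ (M : ModF 𝔛 hloc.1) (W : (𝔛.X 0).Opens) (hW : W ≤ V) (n : ℕ) (x : MSec M W), IndCohLib.Killed hloc n M x →
      ∀ z ∈ L, (rres (𝔛.Osh hloc.1) hW z ^ (n + 1) • x : MSec M W) = 0)
    (hW : W ≤ V) {x : MSec M W} (hx : FTors.IsTorsSect (FTors.openIdealFam 𝔛 hloc.1) M x) :
    TorsL hloc L hW x := fun p hp => by
  obtain ⟨W', h, n, hpW, hn⟩ := (IndCohLib.tors_iff hloc x).1 hx p hp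
  exact ⟨W', h, n + 1, hpW, fun z hz => hL M W' (h.trans hW) n _ hn z hz⟩

/-- The torsion subcomplex of a complex of divisible modules with torsion cohomology is quasi-isomorphic to it. -/
theorem quasiIso_gammaCxι_of_divList
    (hI : ∀ (U : (𝔛.X 0).Opens), ∀ p ∈ U, ∃ (V : (𝔛.X 0).Opens) (L : List (RSec (𝔛.Osh hloc.1) V)),
      IsAffineOpen V ∧ p ∈ V ∧ V ≤ U ∧
      (∀ (M : ModF 𝔛 hloc.1) (W : (𝔛.X 0).Opens) (hW : W ≤ V) (n : ℕ) (x : MSec M W),
        IndCohLib.Killed hloc n M x → ∀ z ∈ L, (rres (𝔛.Osh hloc.1) hW z ^ (n + 1) • x : MSec M W) = 0) ∧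
      (∀ e : ℕ, ∃ n : ℕ, ∀ (M : ModF 𝔛 hloc.1) (W : (𝔛.X 0).Opens) (hW : W ≤ V) (x : MSec M W),
        (∀ z ∈ L, (rres (𝔛.Osh hloc.1) hW z ^ e • x : MSec M W) = 0) → IndCohLib.Killed hloc n M x) ∧
      ∀ i, DivList hloc (K.X i) L)
    (hK : ∀ n, FTors.IsTorsF 𝔛 hloc.1 (K.homology n)) :
    QuasiIso (gammaCxι hloc K) := by
  refine ⟨fun j => ?_⟩
  rw [quasiIsoAt_iff' (gammaCxι hloc K) (j - 1) j (j + 1) (by simp) (by simp), ShortComplex.quasiIso_iff]
  let ψ := (HomologicalComplex.shortComplexFunctor' (ModF 𝔛 hloc.1) (ComplexShape.up ℤ) (j - 1) j (j + 1)).map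
    (gammaCxι hloc K)
  let G := (gammaCx hloc K).sc' (j - 1) j (j + 1)
  let S := K.sc' (j - 1) j (j + 1)
  have hcomm : ∀ (U : (𝔛.X 0).Opens) (z : MSec G.cycles U),
      S.iCycles.val.app (op U) ((ShortComplex.cyclesMap ψ).val.app (op U) z) = (G.iCycles.val.app (op U) z).1 :=
    fun U z => (IndCohLib.app_comp hloc _ _ _ (ShortComplex.cyclesMap_i ψ) z).trans
      ((IndCohLib.app_comp hloc G.iCycles ψ.τ₂ _ rfl z).symm.trans (gammaι_val hloc U _))
  show IsIso (ShortComplex.homologyMap ψ)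
  haveI : Mono (ShortComplex.homologyMap ψ) := mono_of_loc_zero hloc _ fun U a ha p hp => by
    obtain ⟨U₁, h₁, z, hp₁, hz⟩ := IndCohLib.exists_loc_lift hloc G.homologyπ a hp
    have hz0 : S.homologyπ.val.app (op U₁) ((ShortComplex.cyclesMap ψ).val.app (op U₁) z) = 0 := by
      refine (IndCohLib.app_comp hloc _ _ _ (ShortComplex.homologyπ_naturality ψ).symm z).trans ?_
      refine (IndCohLib.app_comp hloc G.homologyπ (ShortComplex.homologyMap ψ) _ rfl z).symm.trans ?_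
      refine (congrArg _ hz).trans ((IndCohLib.app_mres hloc _ h₁ a).trans ?_)
      exact (congrArg (mres S.homology h₁) ha).trans (map_zero _)
    obtain ⟨U₂, h₂, w, hp₂, hw⟩ := exists_loc_boundary hloc S _ hz0 hp₁
    obtain ⟨V, L, hV, hpV, hVU, hL₁, hL₂, hI⟩ := hI _ p hp₂
    let g := G.iCycles.val.app (op U₁) z
    have h21 := hVU.trans h₂
    have hd : dd hloc K (j - 1) j V (mres (K.X (j - 1)) hVU w) = mres (K.X j) h21 g.1 := by
      rw [dd_mres hloc, ← FModLib.mres_mres (K.X j) hVU h₂ g.1]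
      refine congrArg (mres (K.X j) hVU) ?_
      refine (IndCohLib.app_comp hloc S.toCycles S.iCycles _ S.toCycles_i w).symm.trans ?_
      exact (congrArg _ hw).trans ((IndCohLib.app_mres hloc S.iCycles h₂ _).trans
        (congrArg (mres (K.X j) h₂) (hcomm U₁ z)))
    have hgt : TorsL hloc L le_rfl (mres (K.X j) h21 g.1) :=
      torsL_of_tors hloc hL₁ le_rfl (FTors.IsTorsSect.res (homOfLE h21) g.2)
    obtain ⟨V', hV', w', hpV', hw't, hw'⟩ := (exists_torsL hloc L hI (torsCycles_of_isTors hloc K hK L hL₁)).2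
      V le_rfl (j - 1) j (by omega) _ hgt _ hd p hpV
    refine ⟨V', hV'.trans (h21.trans h₁), hpV', ?_⟩
    rw [← FModLib.mres_mres G.homology (hV'.trans h21) h₁ a, ← hz, ← IndCohLib.app_mres hloc]
    have hb : mres G.cycles (hV'.trans h21) z =
        G.toCycles.val.app (op V') (⟨w', tors_of_torsL hloc hL₂ hw't⟩ : MSec G.X₁ V') := by
      refine IndCohLib.inj_of_mono hloc G.iCycles ?_
      refine (IndCohLib.app_mres hloc G.iCycles _ z).trans (Eq.symm ?_)
      refine (IndCohLib.app_comp hloc G.toCycles G.iCycles _ G.toCycles_i _).trans (Subtype.ext ?_)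
      exact hw'.trans (FModLib.mres_mres (K.X j) hV' h21 g.1)
    rw [hb]
    exact (IndCohLib.app_comp hloc G.toCycles G.homologyπ 0 G.toCycles_comp_homologyπ _)
  haveI : Epi (ShortComplex.homologyMap ψ) := epi_of_loc_surjective hloc _ fun U b p hp => by
    obtain ⟨U₁, h₁, z, hp₁, hz⟩ := IndCohLib.exists_loc_lift hloc S.homologyπ b hp
    obtain ⟨V, L, hV, hpV, hVU, hL₁, hL₂, hI⟩ := hI _ p hp₁
    let x := S.iCycles.val.app (op V) (mres S.cycles hVU z)
    have hx : ∀ k, dd hloc K j k V x = 0 := fun k => by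
      by_cases hk : (ComplexShape.up ℤ).Rel j k
      · obtain rfl : k = j + 1 := hk.symm
        exact IndCohLib.app_comp hloc S.iCycles S.g 0 S.iCycles_g _
      · exact congr($(congrArg (fun f : K.X j ⟶ K.X k => f.val.app (op V)) (K.shape j k hk)) x)
    obtain ⟨V', hV', y, hpV', hy⟩ := (exists_torsL hloc L hI (torsCycles_of_isTors hloc K hK L hL₁)).1
      V le_rfl (j - 1) j (by omega) x hx p hpV
    let g : MSec G.X₂ V' := ⟨mres (K.X j) hV' x - dd hloc K (j - 1) j V' y, tors_of_torsL hloc hL₂ hy⟩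
    obtain ⟨zg, hzg⟩ := exists_cycle hloc G g (Subtype.ext (by
      refine (dd_sub hloc K j (j + 1) _ _).trans ?_
      rw [dd_dd hloc, sub_zero, dd_mres hloc, hx]
      exact map_zero _))
    have h21 := hV'.trans hVU
    refine ⟨V', h21.trans h₁, G.homologyπ.val.app (op V') zg, hpV', ?_⟩
    rw [← FModLib.mres_mres S.homology h21 h₁ b, ← hz, ← IndCohLib.app_mres hloc]
    refine (IndCohLib.app_comp hloc _ _ _ (ShortComplex.homologyπ_naturality ψ) zg).trans ?_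
    refine (IndCohLib.app_comp hloc (ShortComplex.cyclesMap ψ) S.homologyπ _ rfl zg).symm.trans ?_
    have hc : (ShortComplex.cyclesMap ψ).val.app (op V') zg =
        mres S.cycles h21 z - S.toCycles.val.app (op V') y := by
      refine IndCohLib.inj_of_mono hloc S.iCycles ?_
      refine (hcomm V' zg).trans ?_
      rw [hzg]
      refine Eq.symm ((map_sub _ _ _).trans (congrArg₂ (fun s t => s - t) ?_ ?_))
      · rw [← FModLib.mres_mres S.cycles hV' hVU z]
        exact IndCohLib.app_mres hloc S.iCycles hV' _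
      · exact IndCohLib.app_comp hloc S.toCycles S.iCycles _ S.toCycles_i y
    rw [hc]
    refine (map_sub _ _ _).trans ?_
    rw [show S.homologyπ.val.app (op V') (S.toCycles.val.app (op V') y) = 0 from
      IndCohLib.app_comp hloc S.toCycles S.homologyπ 0 S.toCycles_comp_homologyπ y, sub_zero]
  exact isIso_of_mono_of_epi _

/-- The torsion subcomplex of a complex of divisible modules with torsion cohomology is quasi-isomorphic to it. -/
theorem quasiIso_gammaCxι_of_isDiv (hI : ∀ i, IsDiv hloc (K.X i))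
    (hK : ∀ n, FTors.IsTorsF 𝔛 hloc.1 (K.homology n)) : QuasiIso (gammaCxι hloc K) :=
  quasiIso_gammaCxι_of_divList hloc (fun U p hp => by
    obtain ⟨V, hV, hpV, hVU⟩ := Opens.isBasis_iff_nbhd.mp (𝔛.X 0).isBasis_affineOpens hp
    obtain ⟨L, hL₁, hL₂⟩ := exists_torsion_funcs hloc hV
    exact ⟨V, L, hV, hpV, hVU, hL₁, hL₂, fun i => divList_of_isDiv hloc hV (hI i) L⟩) hK

/-- **The torsion subcomplex of a complex of injectives with torsion cohomology is quasi-isomorphic to it.** -/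
theorem quasiIso_gammaCxι [hI : ∀ i, Injective (K.X i)] (hK : ∀ n, FTors.IsTorsF 𝔛 hloc.1 (K.homology n)) :
    QuasiIso (gammaCxι hloc K) :=
  quasiIso_gammaCxι_of_isDiv hloc (fun i => isDiv_of_injective hloc (K.X i)) hK

end DTorsLib

end
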