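import Groth.Agent.DTorsLib.Loc
import Groth.Agent.DTorsLib.GammaIso
import Groth.Agent.IndCohLib.Five
import Mathlib.Algebra.Homology.HomologySequence
import Mathlib.Algebra.Homology.HomologicalComplexAbelian

/-!
# The torsion cohomology of complexes with quasi-coherent cohomology is quasi-coherent
-/

set_option autoImplicit false
set_option linter.style.haveILetI false
set_option maxHeartbeats 800000

universe u

open CategoryTheory CategoryTheory.Limits AlgebraicGeometry TopologicalSpace Opposite FSch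
open FModLib (MSec RSec mres rres)

noncomputable section

namespace DTorsLib

variable {𝔛 : Sys.{u}} (hloc : 𝔛.IsLocNoethFormal) {U : (𝔛.X 0).Opens}

/-- One more function: the kernel of the localisation. -/
def step (t : RSec (𝔛.Osh hloc.1) U) (F : ModF 𝔛 hloc.1 ⥤ ModF 𝔛 hloc.1) : ModF 𝔛 hloc.1 ⥤ ModF 𝔛 hloc.1 where
  obj M := kernel ((locMap hloc t).app (F.obj M))
  map f := kernel.map _ _ ((EF hloc U).map (F.map f)) ((Loc hloc t).map (F.map f))
    ((locMap hloc t).naturality (F.map f)).symm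
  map_id M := (cancel_mono (kernel.ι ((locMap hloc t).app (F.obj M)))).1 (by simp [kernel.map])
  map_comp {A B C} f g := (cancel_mono (kernel.ι ((locMap hloc t).app (F.obj C)))).1 (by simp [kernel.map])

/-- Its map back. -/
def stepMap (t : RSec (𝔛.Osh hloc.1) U) {F : ModF 𝔛 hloc.1 ⥤ ModF 𝔛 hloc.1} (j : F ⟶ 𝟭 _) :
    step hloc t F ⟶ 𝟭 _ where
  app M := kernel.ι _ ≫ (εF hloc U).app (F.obj M) ≫ j.app M
  naturality M N f := by
    simp only [step, kernel.lift_ι_assoc, Category.assoc]
    refine congrArg (fun q => kernel.ι _ ≫ q) ?_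
    rw [← Category.assoc]
    refine (congrArg (fun q => q ≫ j.app N) ((εF hloc U).naturality (F.map f))).trans ?_
    refine (Category.assoc _ _ _).trans ((congrArg (fun q => (εF hloc U).app (F.obj M) ≫ q) (j.naturality f)).trans ?_)
    rfl

/-- The iterated torsion functors with their maps back. -/
def cut : List (RSec (𝔛.Osh hloc.1) U) → Σ' F : ModF 𝔛 hloc.1 ⥤ ModF 𝔛 hloc.1, F ⟶ 𝟭 _
  | [] => ⟨𝟭 _, 𝟙 _⟩
  | t :: L => ⟨step hloc t (cut L).1, stepMap hloc t (cut L).2⟩

theorem additive_step (t : RSec (𝔛.Osh hloc.1) U) (F : ModF 𝔛 hloc.1 ⥤ ModF 𝔛 hloc.1) [F.Additive] :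
    (step hloc t F).Additive where
  map_add {M N f g} := by
    refine (cancel_mono (kernel.ι ((locMap hloc t).app (F.obj N)))).1 ?_
    simp only [step, kernel.map]
    refine Eq.trans ?_ (Preadditive.add_comp _ _ _ _ _ _).symm
    rw [kernel.lift_ι, kernel.lift_ι, kernel.lift_ι, F.map_add, (EF hloc U).map_add]
    exact Preadditive.comp_add _ _ _ _ _ _

instance additive_cut : ∀ L : List (RSec (𝔛.Osh hloc.1) U), (cut hloc L).1.Additive
  | [] => inferInstanceAs (𝟭 (ModF 𝔛 hloc.1)).Additive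
  | t :: L => @additive_step _ hloc _ t (cut hloc L).1 (additive_cut L)

theorem stepMap_app_apply (t : RSec (𝔛.Osh hloc.1) U) (L : List (RSec (𝔛.Osh hloc.1) U)) (M : ModF 𝔛 hloc.1)
    {W : (𝔛.X 0).Opens} (x : MSec ((cut hloc (t :: L)).1.obj M) W) :
    ((cut hloc (t :: L)).2.app M).val.app (op W) x = ((cut hloc L).2.app M).val.app (op W)
      (((εF hloc U).app ((cut hloc L).1.obj M)).val.app (op W)
        ((kernel.ι ((locMap hloc t).app ((cut hloc L).1.obj M))).val.app (op W) x)) := rfl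

/-- The iterated torsion functor computes the sections torsion for the list. -/
theorem cut_sections (L : List (RSec (𝔛.Osh hloc.1) U)) (M : ModF 𝔛 hloc.1) :
    ∀ (W : (𝔛.X 0).Opens) (hW : W ≤ U), Function.Injective (((cut hloc L).2.app M).val.app (op W)) ∧
      ∀ y : MSec M W, (∃ x, ((cut hloc L).2.app M).val.app (op W) x = y) ↔ TorsL hloc L hW y := by
  induction L with
  | nil => exact fun W hW => ⟨fun a b h => h, fun y => ⟨fun _ => torsL_nil hloc, fun _ => ⟨y, rfl⟩⟩⟩
  | cons t L ih =>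
    intro W hW
    let F := (cut hloc L).1.obj M
    let j := (cut hloc L).2.app M
    let c := (locMap hloc t).app F
    refine ⟨fun a b h => ?_, fun y => ⟨?_, fun hy => ?_⟩⟩
    · rw [stepMap_app_apply hloc, stepMap_app_apply hloc] at h
      exact IndCohLib.inj_of_mono hloc (kernel.ι c) ((εF_bijective hloc hW F).1 ((ih W hW).1 h))
    · rintro ⟨x, rfl⟩ p hp
      rw [stepMap_app_apply hloc]
      let a := (kernel.ι c).val.app (op W) x
      let v := j.val.app (op W) (((εF hloc U).app F).val.app (op W) a)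
      have ha : c.val.app (op W) a = 0 :=
        IndCohLib.app_comp hloc (kernel.ι c) c 0 (kernel.condition c) x
      obtain ⟨W₀, h₀, e, hp₀, he⟩ := ((ih W hW).2 v).1 ⟨_, rfl⟩ p hp
      obtain ⟨V, hV, hpV, hVW⟩ := Opens.isBasis_iff_nbhd.mp (𝔛.X 0).isBasis_affineOpens hp₀
      obtain ⟨m, hm⟩ := exists_pow_of_locMap_eq_zero hloc t ((hVW.trans h₀).trans hW) hV.isCompact
        (mres _ (hVW.trans h₀) a) ((IndCohLib.app_mres hloc c _ a).trans ((congrArg _ ha).trans (map_zero _)))
      have hm' : (rres (𝔛.Osh hloc.1) ((hVW.trans h₀).trans hW) t ^ m • mres M (hVW.trans h₀) v : MSec M V) = 0 := by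
        refine Eq.trans ?_ ((congrArg (j.val.app (op V)) hm).trans (map_zero _))
        refine Eq.trans ?_ ((j.val.app (op V)).hom.map_smul _ _).symm
        refine congrArg (fun q : MSec M V => (rres (𝔛.Osh hloc.1) ((hVW.trans h₀).trans hW) t ^ m • q : MSec M V)) ?_
        refine (IndCohLib.app_mres hloc j (hVW.trans h₀) _).symm.trans (congrArg (j.val.app (op V)) ?_)
        exact (IndCohLib.app_mres hloc ((εF hloc U).app F) (hVW.trans h₀) a).symm
      refine ⟨V, hVW.trans h₀, max e m, hpV, fun z hz => ?_⟩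
      rcases List.mem_cons.1 hz with rfl | hz
      · exact pow_smul_mono hloc (le_max_right e m) hm'
      · exact pow_smul_mono hloc (le_max_left e m) (eq_zero_res hloc h₀ hVW hW z e v (he z hz))
    · obtain ⟨w, hw⟩ := ((ih W hW).2 y).2 (hy.tail hloc)
      let x : MSec ((EF hloc U).obj F) W := OpenExt.sec hW w
      have hx : c.val.app (op W) x = 0 := FCohLib.eq_zero_of_points _ _ fun p hp => by
        obtain ⟨W', h', e, hp', he⟩ := hy p hp
        refine ⟨W', h', hp', (IndCohLib.app_mres hloc c h' x).symm.trans ?_⟩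
        refine locMap_eq_zero hloc t (h'.trans hW) e _ ((ih W' (h'.trans hW)).1 ?_)
        refine ((j.val.app (op W')).hom.map_smul _ _).trans (Eq.trans ?_ ((he t List.mem_cons_self).trans (map_zero _).symm))
        refine congrArg (fun q : MSec M W' => (_ • q : MSec M W')) ?_
        refine (congrArg (j.val.app (op W')) ((IndCohLib.app_mres hloc ((εF hloc U).app F) h' x).trans
          (congrArg (mres F h') (OpenExt.ε_sec hW w)))).trans ?_
        exact (IndCohLib.app_mres hloc j h' w).trans (congrArg (mres M h') hw)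
      obtain ⟨k, hk⟩ := _root_.ModSiteLib.exists_kernel_section c W x hx
      refine ⟨k, (stepMap_app_apply hloc t L M k).trans ?_⟩
      refine (congrArg (j.val.app (op W)) ((congrArg (((εF hloc U).app F).val.app (op W)) hk).trans
        (OpenExt.ε_sec hW w))).trans hw

/-- Localisation is surjective on torsion sections of divisible modules. -/
theorem epi_locMap_cut (hU : IsAffineOpen U) (t : RSec (𝔛.Osh hloc.1) U) (L : List (RSec (𝔛.Osh hloc.1) U))
    {M : ModF 𝔛 hloc.1} (hM : IsDiv hloc M) : Epi ((locMap hloc t).app ((cut hloc L).1.obj M)) := by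
  let F := (cut hloc L).1.obj M
  let c := (locMap hloc t).app F
  let D := (diag hloc t).obj F
  refine Preadditive.epi_of_cancel_zero _ fun {P} q hq => colimit.hom_ext fun n => ?_
  refine Eq.trans ?_ comp_zero.symm
  refine OpenExt.hom_ext fun W hW x => ?_
  refine Eq.trans ?_ (show (0 : MSec P W) = _ from rfl)
  refine FCohLib.eq_zero_of_points P _ fun p hp => ?_
  let v := ((εF hloc U).app F).val.app (op W) x
  let s := ((cut hloc L).2.app M).val.app (op W) v
  obtain ⟨W', h', d, y, hp', hyt, hy⟩ := exists_torsL_divide hloc hU hM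
    (((cut_sections hloc L M W hW).2 s).1 ⟨v, rfl⟩) t (AsSmall.down.obj n) hp
  obtain ⟨w, hw⟩ := ((cut_sections hloc L M W' (h'.trans hW)).2 y).2 hyt
  let b : MSec ((EF hloc U).obj F) W' := OpenExt.sec (h'.trans hW) w
  refine ⟨W', h', hp', (IndCohLib.app_mres hloc _ h' x).symm.trans ?_⟩
  let S := Functor.ofSequence (X := fun _ : ℕ => (EF hloc U).obj F) fun _ => (OpenExt.τ t).app F
  let k := AsSmall.down.obj n
  let ι : ℕ → ((EF hloc U).obj F ⟶ (Loc hloc t).obj F) := fun i => colimit.ι D (AsSmall.up.obj i)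
  have hι : ∀ (i m : ℕ) (z : MSec ((EF hloc U).obj F) W'),
      (ι i).val.app (op W') z = (ι (i + m)).val.app (op W') ((S.map (homOfLE (Nat.le_add_right i m))).val.app (op W') z) :=
    fun i m z => (IndCohLib.app_comp hloc _ (ι (i + m)) _
      (colimit.w D (AsSmall.up.map (homOfLE (Nat.le_add_right i m)))) z).symm
  have hfinal : (ι k).val.app (op W') (mres _ h' x) = (ι 0).val.app (op W') b := by
    rw [hι k d, hι 0 (d + k)]
    have hidx : ∀ (i : ℕ) (e : i = d + k) (z z' : MSec ((EF hloc U).obj F) W'),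
        z = z' → (ι i).val.app (op W') z = (ι (d + k)).val.app (op W') z' := by
      rintro i rfl z z' rfl
      rfl
    refine (hidx _ (Nat.add_comm k d) _ _ ?_).trans (hidx _ (Nat.zero_add _) _ _ rfl).symm
    refine (εF_bijective hloc (h'.trans hW) F).1 ((ε_diag_map hloc t (h'.trans hW) _ _ _).trans
      (Eq.trans ?_ (ε_diag_map hloc t (h'.trans hW) _ _ _).symm))
    refine (cut_sections hloc L M W' (h'.trans hW)).1 ?_
    refine ((((cut hloc L).2.app M).val.app (op W')).hom.map_smul _ _).trans (Eq.trans ?_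
      ((((cut hloc L).2.app M).val.app (op W')).hom.map_smul _ _).symm)
    refine Eq.trans ?_ ((congrArg (fun q : MSec M W' => (rres (𝔛.Osh hloc.1) (h'.trans hW) t ^ (d + k) • q : MSec M W'))
      ((congrArg (((cut hloc L).2.app M).val.app (op W')) (OpenExt.ε_sec (h'.trans hW) w)).trans hw)).trans rfl).symm
    refine Eq.trans ?_ hy.symm
    refine congrArg (fun q : MSec M W' => (rres (𝔛.Osh hloc.1) (h'.trans hW) t ^ d • q : MSec M W')) ?_
    refine (congrArg (((cut hloc L).2.app M).val.app (op W'))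
      (IndCohLib.app_mres hloc ((εF hloc U).app F) h' x)).trans ?_
    exact IndCohLib.app_mres hloc ((cut hloc L).2.app M) h' v
  refine (IndCohLib.app_comp hloc (ι k) q _ rfl (mres _ h' x)).symm.trans ?_
  refine (congrArg (q.val.app (op W')) hfinal).trans ?_
  exact IndCohLib.app_comp hloc (ι 0) q 0 hq b

theorem good_homology_map (G : ModF 𝔛 hloc.1 ⥤ ModF 𝔛 hloc.1) [G.Additive] [PreservesFiniteLimits G]
    [PreservesFiniteColimits G] (X : CochainComplex (ModF 𝔛 hloc.1) ℤ) (n : ℤ)
    (h : IndCohLib.Good hloc (G.obj (X.homology n)) U) :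
    IndCohLib.Good hloc (((G.mapHomologicalComplex _).obj X).homology n) U :=
  IndCohLib.good_of_iso hloc ((X.sc n).mapHomologyIso G).symm h

theorem good_homology_cut (hU : IsAffineOpen U) (I : CochainComplex (ModF 𝔛 hloc.1) ℤ)
    (hI : ∀ i, IsDiv hloc (I.X i))
    (L : List (RSec (𝔛.Osh hloc.1) U)) (n : ℤ)
    (h : ∀ m : ℤ, n - L.length ≤ m → m ≤ n → IndCohLib.Good hloc (I.homology m) U) :
    IndCohLib.Good hloc ((((cut hloc L).1.mapHomologicalComplex (ComplexShape.up ℤ)).obj I).homology n) U := by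
  induction L generalizing n with
  | nil =>
    exact IndCohLib.good_of_iso hloc ((HomologicalComplex.homologyFunctor _ _ n).mapIso
      ((Functor.mapHomologicalComplexIdIso (ModF 𝔛 hloc.1) (ComplexShape.up ℤ)).app I)).symm
      (h n (by simp) le_rfl)
  | cons t L ih =>
    let A := ((cut hloc L).1.mapHomologicalComplex (ComplexShape.up ℤ)).obj I
    let f : ((cut hloc (t :: L)).1.mapHomologicalComplex (ComplexShape.up ℤ)).obj I ⟶
        ((EF hloc U).mapHomologicalComplex _).obj A :=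
      { f := fun i => kernel.ι ((locMap hloc t).app ((cut hloc L).1.obj (I.X i)))
        comm' := fun i j _ => (kernel.lift_ι _ _ _).symm }
    let g := (NatTrans.mapHomologicalComplex (locMap hloc t) (ComplexShape.up ℤ)).app A
    let S := ShortComplex.mk f g (HomologicalComplex.hom_ext _ _ fun i => kernel.condition _)
    have hS : S.ShortExact := HomologicalComplex.shortExact_of_degreewise_shortExact S fun i =>
      { exact := ShortComplex.exact_of_f_is_kernel _ (kernelIsKernel ((locMap hloc t).app ((cut hloc L).1.obj (I.X i))))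
        mono_f := inferInstanceAs (Mono (kernel.ι ((locMap hloc t).app ((cut hloc L).1.obj (I.X i)))))
        epi_g := epi_locMap_cut hloc hU t L (hI i) }
    have ih' : ∀ m, n - 1 ≤ m → m ≤ n → IndCohLib.Good hloc (A.homology m) U := fun m h1 h2 =>
      ih m fun m' h1' h2' => h m' (by simp only [List.length_cons, Nat.cast_add, Nat.cast_one]; omega) (by omega)
    have hE : ∀ m, n - 1 ≤ m → m ≤ n → IndCohLib.Good hloc (S.X₂.homology m) U := fun m h1 h2 =>
      good_homology_map hloc (EF hloc U) A m ((good_EF_iff hloc _).2 (ih' m h1 h2))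
    have hL : ∀ m, n - 1 ≤ m → m ≤ n → IndCohLib.Good hloc (S.X₃.homology m) U := fun m h1 h2 =>
      good_homology_map hloc (Loc hloc t) A m (good_Loc hloc t (ih' m h1 h2))
    exact IndCohLib.good_five' hloc (HomologicalComplex.homologyMap S.g (n - 1))
      (hS.δ (n - 1) n (by simp)) (HomologicalComplex.homologyMap S.f n) (HomologicalComplex.homologyMap S.g n)
      (hS.comp_δ (n - 1) n (by simp)) (hS.δ_comp (n - 1) n (by simp))
      (by rw [← HomologicalComplex.homologyMap_comp, S.zero, HomologicalComplex.homologyMap_zero])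
      (hS.homology_exact₃ (n - 1) n (by simp)) (hS.homology_exact₁ (n - 1) n (by simp)) (hS.homology_exact₂ n)
      (hE (n - 1) le_rfl (by omega)) (hL (n - 1) le_rfl (by omega)) (hE n (by omega) le_rfl) (hL n (by omega) le_rfl)

/-- Torsion for the list is torsion. -/
theorem exists_iso_EF_gammaT' {L : List (RSec (𝔛.Osh hloc.1) U)}
    (hL₁ : ∀ (M : ModF 𝔛 hloc.1) (W : (𝔛.X 0).Opens) (hW : W ≤ U) (n : ℕ) (x : MSec M W), IndCohLib.Killed hloc n M x →
      ∀ z ∈ L, (rres (𝔛.Osh hloc.1) hW z ^ (n + 1) • x : MSec M W) = 0)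
    (hL₂ : ∀ e : ℕ, ∃ n : ℕ, ∀ (M : ModF 𝔛 hloc.1) (W : (𝔛.X 0).Opens) (hW : W ≤ U) (x : MSec M W),
      (∀ z ∈ L, (rres (𝔛.Osh hloc.1) hW z ^ e • x : MSec M W) = 0) → IndCohLib.Killed hloc n M x) :
    ∃ θ : (cut hloc L).1 ⋙ EF hloc U ≅ FTors.gammaT 𝔛 hloc.1 ⋙ EF hloc U, ∀ M,
      θ.hom.app M ≫ (EF hloc U).map ((FTors.gammaTι 𝔛 hloc.1).app M) = (EF hloc U).map ((cut hloc L).2.app M) := by
  let G := FTors.gammaT 𝔛 hloc.1
  let E := EF hloc U
  have hbij : ∀ (M : ModF 𝔛 hloc.1) (W : (𝔛.X 0).Opens) (hW : W ≤ U) (x : MSec ((cut hloc L).1.obj M) W),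
      ∃ a : MSec (G.obj M) W, a.1 = ((cut hloc L).2.app M).val.app (op W) x := fun M W hW x =>
    ⟨⟨_, tors_of_torsL hloc hL₂ (((cut_sections hloc L M W hW).2 _).1 ⟨x, rfl⟩)⟩, rfl⟩
  haveI hm : ∀ M, Mono (E.map ((FTors.gammaTι 𝔛 hloc.1).app M)) := fun M => by
    haveI : Mono ((FTors.gammaTι 𝔛 hloc.1).app M) :=
      _root_.ModSiteLib.mono_of_injective_ap _ fun _ _ _ hab => Subtype.ext hab
    infer_instance
  have hw : ∀ M, E.map ((cut hloc L).2.app M) ≫ cokernel.π (E.map ((FTors.gammaTι 𝔛 hloc.1).app M)) = 0 := fun M =>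
    OpenExt.hom_ext fun W hW x => by
      let q := cokernel.π (E.map ((FTors.gammaTι 𝔛 hloc.1).app M))
      obtain ⟨a, ha⟩ := hbij M W hW (((εF hloc U).app ((cut hloc L).1.obj M)).val.app (op W) x)
      have e : (E.map ((cut hloc L).2.app M)).val.app (op W) x =
          (E.map ((FTors.gammaTι 𝔛 hloc.1).app M)).val.app (op W) (OpenExt.sec hW a) :=
        (εF_bijective hloc hW M).1 ((ε_map hloc _ x).trans (ha.symm.trans
          ((congrArg (((FTors.gammaTι 𝔛 hloc.1).app M).val.app (op W)) (OpenExt.ε_sec hW a)).symm.trans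
            (ε_map hloc _ _).symm)))
      refine (IndCohLib.app_comp hloc (E.map ((cut hloc L).2.app M)) q _ rfl x).symm.trans ?_
      exact (congrArg (q.val.app (op W)) e).trans (IndCohLib.app_comp hloc _ q 0 (cokernel.condition _) _)
  let θ := fun M => Abelian.monoLift (E.map ((FTors.gammaTι 𝔛 hloc.1).app M)) (E.map ((cut hloc L).2.app M)) (hw M)
  have hθ : ∀ M, θ M ≫ E.map ((FTors.gammaTι 𝔛 hloc.1).app M) = E.map ((cut hloc L).2.app M) := fun M =>
    Abelian.monoLift_comp _ _ _
  have hcompat : ∀ {M : ModF 𝔛 hloc.1} {W : (𝔛.X 0).Opens} (hW : W ≤ U) (x : MSec (E.obj ((cut hloc L).1.obj M)) W),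
      (((εF hloc U).app (G.obj M)).val.app (op W) ((θ M).val.app (op W) x)).1 =
        ((cut hloc L).2.app M).val.app (op W) (((εF hloc U).app ((cut hloc L).1.obj M)).val.app (op W) x) :=
    fun {M W} hW x => (ε_map hloc ((FTors.gammaTι 𝔛 hloc.1).app M) _).symm.trans
      ((congrArg (((εF hloc U).app M).val.app (op W)) (IndCohLib.app_comp hloc (θ M) _ _ (hθ M) x)).trans
        (ε_map hloc _ x))
  haveI : ∀ M, IsIso (θ M) := fun M => by
    haveI : Epi (θ M) := Preadditive.epi_of_cancel_zero _ fun {P} q hq => OpenExt.hom_ext fun W hW b => by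
      let a : MSec (G.obj M) W := ((εF hloc U).app (G.obj M)).val.app (op W) b
      obtain ⟨x, hx⟩ := ((cut_sections hloc L M W hW).2 a.1).2 (torsL_of_tors hloc hL₁ hW a.2)
      have e : (θ M).val.app (op W) (OpenExt.sec hW x) = b := (εF_bijective hloc hW _).1 (Subtype.ext
        ((hcompat hW _).trans ((congrArg (((cut hloc L).2.app M).val.app (op W)) (OpenExt.ε_sec hW x)).trans hx)))
      rw [← e]
      exact IndCohLib.app_comp hloc (θ M) q 0 hq _
    haveI : Mono (θ M) := by
      haveI : Mono (E.map ((cut hloc L).2.app M)) := by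
        have h0 : E.map (kernel.ι ((cut hloc L).2.app M)) = 0 := OpenExt.hom_ext fun W hW x => by
          refine Eq.trans ?_ (show (0 : MSec (E.obj ((cut hloc L).1.obj M)) W) = _ from rfl)
          refine (εF_bijective hloc hW _).1 ((ε_map hloc _ x).trans (Eq.trans ?_ (map_zero _).symm))
          refine (cut_sections hloc L M W hW).1 (Eq.trans ?_ (map_zero _).symm)
          exact IndCohLib.app_comp hloc _ _ 0 (kernel.condition _) _
        exact ((ShortComplex.exact_of_f_is_kernel (ShortComplex.mk _ _ (kernel.condition ((cut hloc L).2.app M)))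
          (kernelIsKernel _)).map E).mono_g h0
      exact mono_of_mono_fac (hθ M)
    exact isIso_of_mono_of_epi _
  exact ⟨NatIso.ofComponents (fun M => asIso (θ M)) fun {M N} f => by
    refine (cancel_mono (E.map ((FTors.gammaTι 𝔛 hloc.1).app N))).1 ?_
    refine (Category.assoc _ _ _).trans ((congrArg (fun q => E.map ((cut hloc L).1.map f) ≫ q) (hθ N)).trans ?_)
    refine ((E.map_comp _ _).symm.trans (congrArg E.map ((cut hloc L).2.naturality f))).trans ?_
    refine (E.map_comp _ _).trans ?_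
    refine (congrArg (fun q => q ≫ E.map f) (hθ M)).symm.trans ((Category.assoc _ _ _).trans ?_)
    refine Eq.trans ?_ (Category.assoc _ _ _).symm
    exact congrArg (fun q => θ M ≫ q) ((E.map_comp _ _).symm.trans
      ((congrArg E.map ((FTors.gammaTι 𝔛 hloc.1).naturality f).symm).trans (E.map_comp _ _))), hθ⟩

/-- Torsion for the list is torsion, on the extension by zero. -/
theorem exists_iso_EF_gammaT {L : List (RSec (𝔛.Osh hloc.1) U)}
    (hL₁ : ∀ (M : ModF 𝔛 hloc.1) (W : (𝔛.X 0).Opens) (hW : W ≤ U) (n : ℕ) (x : MSec M W), IndCohLib.Killed hloc n M x →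
      ∀ z ∈ L, (rres (𝔛.Osh hloc.1) hW z ^ (n + 1) • x : MSec M W) = 0)
    (hL₂ : ∀ e : ℕ, ∃ n : ℕ, ∀ (M : ModF 𝔛 hloc.1) (W : (𝔛.X 0).Opens) (hW : W ≤ U) (x : MSec M W),
      (∀ z ∈ L, (rres (𝔛.Osh hloc.1) hW z ^ e • x : MSec M W) = 0) → IndCohLib.Killed hloc n M x) :
    Nonempty ((cut hloc L).1 ⋙ EF hloc U ≅ FTors.gammaT 𝔛 hloc.1 ⋙ EF hloc U) :=
  ⟨(exists_iso_EF_gammaT' hloc hL₁ hL₂).choose⟩

/-- **The torsion of a complex of divisible modules with quasi-coherent cohomology has quasi-coherent cohomology.** -/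
theorem isQC_homology_gammaCx (I : CochainComplex (ModF 𝔛 hloc.1) ℤ) (hI : ∀ i, IsDiv hloc (I.X i))
    (h : ∀ n, IndCohLib.IsQC hloc (I.homology n)) (n : ℤ) :
    IndCohLib.IsQC hloc ((gammaCx hloc I).homology n) := fun p => by
  classical
  obtain ⟨U₀, hU₀, hp₀, -⟩ := Opens.isBasis_iff_nbhd.mp (𝔛.X 0).isBasis_affineOpens
    (show p ∈ (⊤ : (𝔛.X 0).Opens) from trivial)
  obtain ⟨L₀, hL₁, hL₂⟩ := exists_torsion_funcs hloc hU₀
  choose O hO hgood using fun m : ℤ => h m p
  let S : Finset ℤ := Finset.Icc (n - L₀.length) n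
  refine ⟨U₀ ⊓ S.inf O, ⟨hp₀, ?_⟩, fun U hU hle => ?_⟩
  · exact Finset.inf_induction (p := fun V : (𝔛.X 0).Opens => p ∈ V) trivial (fun _ ha _ hb => ⟨ha, hb⟩)
      fun m _ => hO m
  have hUU : U ≤ U₀ := hle.trans inf_le_left
  let L := L₀.map (rres (𝔛.Osh hloc.1) hUU)
  have h1 : ∀ (M : ModF 𝔛 hloc.1) (W : (𝔛.X 0).Opens) (hW : W ≤ U) (k : ℕ) (x : MSec M W),
      IndCohLib.Killed hloc k M x → ∀ z ∈ L, (rres (𝔛.Osh hloc.1) hW z ^ (k + 1) • x : MSec M W) = 0 := by
    intro M W hW k x hx z hz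
    obtain ⟨z₀, hz₀, rfl⟩ := List.mem_map.1 hz
    rw [FModLib.rres_rres]
    exact hL₁ M W (hW.trans hUU) k x hx z₀ hz₀
  have h2 : ∀ e : ℕ, ∃ k : ℕ, ∀ (M : ModF 𝔛 hloc.1) (W : (𝔛.X 0).Opens) (hW : W ≤ U) (x : MSec M W),
      (∀ z ∈ L, (rres (𝔛.Osh hloc.1) hW z ^ e • x : MSec M W) = 0) → IndCohLib.Killed hloc k M x := by
    intro e
    obtain ⟨k, hk⟩ := hL₂ e
    refine ⟨k, fun M W hW x hx => hk M W (hW.trans hUU) x fun z₀ hz₀ => ?_⟩
    rw [← FModLib.rres_rres hW hUU z₀]
    exact hx _ (List.mem_map.2 ⟨z₀, hz₀, rfl⟩)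
  obtain ⟨θ⟩ := exists_iso_EF_gammaT hloc h1 h2
  have hc := good_homology_cut hloc hU I hI L n fun m hm hm' => hgood m U hU
    (hle.trans (inf_le_right.trans (Finset.inf_le (Finset.mem_Icc.2 ⟨by
      simp only [L, List.length_map] at hm; exact hm, hm'⟩))))
  let C := ((cut hloc L).1.mapHomologicalComplex (ComplexShape.up ℤ)).obj I
  let e : ((EF hloc U).mapHomologicalComplex _).obj C ≅ ((EF hloc U).mapHomologicalComplex _).obj (gammaCx hloc I) :=
    HomologicalComplex.Hom.isoOfComponents (fun i => θ.app (I.X i)) fun i j _ => (θ.hom.naturality (I.d i j)).symm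
  refine (good_EF_iff hloc _).1 (IndCohLib.good_of_iso hloc
    (((C.sc n).mapHomologyIso (EF hloc U)).symm ≪≫ (HomologicalComplex.homologyFunctor _ _ n).mapIso e ≪≫
      ((gammaCx hloc I).sc n).mapHomologyIso (EF hloc U)) ((good_EF_iff hloc _).2 hc))

end DTorsLib

end
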