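import Groth.Agent.DTorsLib.GammaIso
import Groth.Agent.IndCohLib.PushColim

/-!
# Divisible modules, the torsion functor and colimits
-/

set_option autoImplicit false
set_option linter.style.haveILetI false
set_option maxHeartbeats 800000

universe u

open CategoryTheory CategoryTheory.Limits AlgebraicGeometry TopologicalSpace Opposite FSch
open FModLib (MSec RSec mres rres oK)

noncomputable section

namespace DTorsLib

variable {𝔛 : Sys.{u}} (hloc : 𝔛.IsLocNoethFormal) {M N P : ModF 𝔛 hloc.1}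

theorem app_smul_eq (θ : M ⟶ N) {W : (𝔛.X 0).Opens} (a : RSec (𝔛.Osh hloc.1) W) (x : MSec M W) :
    θ.val.app (op W) (a • x : MSec M W) = (a • θ.val.app (op W) x : MSec N W) :=
  (θ.val.app (op W)).hom.map_smul a x

theorem isDiv_of_iso (e : M ≅ N) (h : IsDiv hloc M) : IsDiv hloc N := fun V hV σ _ z t W hW s hs n p hp => by
  obtain ⟨W', h', y, hp', hy, hy'⟩ := h V hV σ inferInstance z t W hW (e.inv.val.app (op W) s) (fun l => by
    rw [← app_smul_eq hloc, hs l]
    exact map_zero _) n p hp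
  refine ⟨W', h', e.hom.val.app (op W') y, hp', fun l => ?_, ?_⟩
  · rw [← app_smul_eq hloc, hy l]
    exact map_zero _
  · rw [← app_smul_eq hloc, hy', app_smul_eq hloc, IndCohLib.app_mres hloc,
      show e.hom.val.app (op W) (e.inv.val.app (op W) s) = s from
        IndCohLib.app_comp hloc e.inv e.hom (𝟙 _) e.inv_hom_id s]

theorem isDiv_biprod [HasBinaryBiproduct M N] (hM : IsDiv hloc M) (hN : IsDiv hloc N) : IsDiv hloc (M ⊞ N) :=
    fun V hV σ _ z t W hW s hs n p hp => by
  obtain ⟨W₁, h₁, a, hp₁, ha, ha'⟩ := hM V hV σ inferInstance z t W hW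
    ((biprod.fst : M ⊞ N ⟶ M).val.app (op W) s)
    (fun l => by rw [← app_smul_eq hloc, hs l]; exact map_zero _) n p hp
  obtain ⟨W₂, h₂, b, hp₂, hb, hb'⟩ := hN V hV σ inferInstance z t W₁ (h₁.trans hW)
    ((biprod.snd : M ⊞ N ⟶ N).val.app (op W₁) (mres (M ⊞ N) h₁ s))
    (fun l => by
      rw [← app_smul_eq hloc]
      refine (congrArg _ ?_).trans (map_zero _)
      rw [← FModLib.rres_rres h₁ hW (z l)]
      exact (IndCohLib.mres_smul hloc h₁ _ s).symm.trans ((congrArg (mres (M ⊞ N) h₁) (hs l)).trans (map_zero _))) n p hp₁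
  let a₂ := mres M h₂ a
  let y : MSec (M ⊞ N) W₂ := (biprod.inl : M ⟶ M ⊞ N).val.app (op W₂) a₂ + (biprod.inr : N ⟶ M ⊞ N).val.app (op W₂) b
  have ha₂ : ∀ (c : RSec (𝔛.Osh hloc.1) W₁),
      (rres (𝔛.Osh hloc.1) h₂ c • a₂ : MSec M W₂) = mres M h₂ (c • a : MSec M W₁) :=
    fun c => (IndCohLib.mres_smul hloc h₂ c a).symm
  refine ⟨W₂, h₂.trans h₁, y, hp₂, fun l => ?_, ?_⟩
  · refine (smul_add _ _ _).trans ?_
    rw [← app_smul_eq hloc, ← app_smul_eq hloc, hb l, ← FModLib.rres_rres h₂ (h₁.trans hW) (z l), ha₂, ha l]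
    rw [show mres M h₂ (0 : MSec M W₁) = 0 from map_zero _]
    exact (congrArg₂ (fun u v => u + v) (map_zero _) (map_zero _)).trans (add_zero _)
  · refine (smul_add _ _ _).trans ?_
    have hc : ∀ e : ℕ, rres (𝔛.Osh hloc.1) (h₂.trans (h₁.trans hW)) t ^ e =
        rres (𝔛.Osh hloc.1) h₂ (rres (𝔛.Osh hloc.1) (h₁.trans hW) t ^ e) := fun e => by
      rw [← FModLib.rres_rres h₂ (h₁.trans hW) t]
      exact (map_pow ((𝔛.Osh hloc.1).obj.map (homOfLE h₂).op).hom _ e).symm
    rw [← app_smul_eq hloc, ← app_smul_eq hloc, hb', hc, ha₂, ha']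
    let x : MSec (M ⊞ N) W₂ := rres (𝔛.Osh hloc.1) (h₂.trans (h₁.trans hW)) t ^ divBound hloc hV z t •
      mres (M ⊞ N) (h₂.trans h₁) s
    have h1 : mres M h₂ (rres (𝔛.Osh hloc.1) (h₁.trans hW) t ^ divBound hloc hV z t •
        mres M h₁ ((biprod.fst : M ⊞ N ⟶ M).val.app (op W) s) : MSec M W₁) =
        (biprod.fst : M ⊞ N ⟶ M).val.app (op W₂) x := by
      rw [app_smul_eq hloc, IndCohLib.mres_smul hloc, ← hc, FModLib.mres_mres, IndCohLib.app_mres hloc]
    have h2 : (rres (𝔛.Osh hloc.1) (h₂.trans (h₁.trans hW)) t ^ divBound hloc hV z t •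
        mres N h₂ ((biprod.snd : M ⊞ N ⟶ N).val.app (op W₁) (mres (M ⊞ N) h₁ s)) : MSec N W₂) =
        (biprod.snd : M ⊞ N ⟶ N).val.app (op W₂) x := by
      rw [app_smul_eq hloc, ← IndCohLib.app_mres hloc, FModLib.mres_mres]
    rw [h1, h2]
    refine Eq.trans ?_ ((congr($(congrArg (fun f : M ⊞ N ⟶ M ⊞ N => f.val.app (op W₂))
      (biprod.total (X := M) (Y := N))) x)).trans rfl)
    rfl

variable {J : Type u} [SmallCategory J] [IsFiltered J] {D : J ⥤ ModF 𝔛 hloc.1} {c : Cocone D}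

/-- Sections killed at the colimit are killed at a stage. -/
theorem exists_stage_killed (hc : IsColimit c) {U : (𝔛.X 0).Opens} (hU : IsCompact (U : Set (𝔛.X 0)))
    {σ : Type u} [Fintype σ] (a : σ → RSec (𝔛.Osh hloc.1) U) {i : J} (s : MSec (D.obj i) U)
    (h : ∀ l, (a l • (c.ι.app i).val.app (op U) s : MSec c.pt U) = 0) :
    ∃ (k : J) (f : i ⟶ k), ∀ l, (a l • (D.map f).val.app (op U) s : MSec (D.obj k) U) = 0 := by
  classical
  suffices H : ∀ S : Finset σ, ∃ (k : J) (f : i ⟶ k), ∀ l ∈ S,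
      (a l • (D.map f).val.app (op U) s : MSec (D.obj k) U) = 0 by
    obtain ⟨k, f, hf⟩ := H Finset.univ
    exact ⟨k, f, fun l => hf l (Finset.mem_univ l)⟩
  intro S
  induction S using Finset.induction_on with
  | empty => exact ⟨i, 𝟙 i, fun l hl => absurd hl (Finset.notMem_empty l)⟩
  | insert l S _ ih =>
    obtain ⟨k, f, hf⟩ := ih
    have h0 : (c.ι.app k).val.app (op U) (a l • (D.map f).val.app (op U) s : MSec (D.obj k) U) = 0 := by
      rw [app_smul_eq hloc, IndCohLib.app_comp hloc (D.map f) (c.ι.app k) _ (c.w f) s]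
      exact h l
    obtain ⟨k', g, hg⟩ := IndCohLib.stage_eq hloc hc hU _ h0
    have hcomp : (D.map (f ≫ g)).val.app (op U) s = (D.map g).val.app (op U) ((D.map f).val.app (op U) s) :=
      (IndCohLib.app_comp hloc (D.map f) (D.map g) _ (D.map_comp f g).symm s).symm
    refine ⟨k', f ≫ g, fun m hm => ?_⟩
    rw [hcomp, ← app_smul_eq hloc]
    rcases Finset.mem_insert.1 hm with rfl | hm
    · exact hg
    · rw [hf m hm]
      exact map_zero _

theorem isDiv_colimit (hc : IsColimit c) (hD : ∀ j, IsDiv hloc (D.obj j)) : IsDiv hloc c.pt :=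
    fun V hV σ _ z t W hW s hs n p hp => by
  obtain ⟨W₀, hW₀, hp₀, hle⟩ := Opens.isBasis_iff_nbhd.mp (𝔛.X 0).isBasis_affineOpens hp
  obtain ⟨i, u, hu⟩ := IndCohLib.stage_section hloc hc hW₀.isCompact (mres c.pt hle s)
  obtain ⟨k, f, hf⟩ := exists_stage_killed hloc hc hW₀.isCompact
    (fun l => rres (𝔛.Osh hloc.1) (hle.trans hW) (z l)) u (fun l => by
      rw [hu, ← FModLib.rres_rres hle hW (z l)]
      exact (IndCohLib.mres_smul hloc hle _ s).symm.trans ((congrArg (mres c.pt hle) (hs l)).trans (map_zero _)))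
  obtain ⟨W', h', y, hp', hy, hy'⟩ := hD k V hV σ inferInstance z t W₀ (hle.trans hW) _ hf n p hp₀
  refine ⟨W', h'.trans hle, (c.ι.app k).val.app (op W') y, hp', fun l => ?_, ?_⟩
  · rw [← app_smul_eq hloc, hy l]
    exact map_zero _
  · rw [← app_smul_eq hloc, hy', app_smul_eq hloc, IndCohLib.app_mres hloc,
      IndCohLib.app_comp hloc (D.map f) (c.ι.app k) _ (c.w f) u, hu]
    exact congrArg (fun q : MSec c.pt W' => (_ • q : MSec c.pt W')) (FModLib.mres_mres c.pt h' hle s)

include hloc in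
/-- The torsion functor commutes with filtered colimits. -/
theorem preservesFilteredColimit_gammaT : PreservesColimitsOfShape J (FTors.gammaT 𝔛 hloc.1) := by
  refine ⟨fun {D} => ⟨fun {c} hc => ?_⟩⟩
  let G := FTors.gammaT 𝔛 hloc.1
  let c' := colimit.cocone (D ⋙ G)
  let hc' : IsColimit c' := colimit.isColimit (D ⋙ G)
  let φ := hc'.desc (G.mapCocone c)
  have hfac : ∀ (j : J) {U : (𝔛.X 0).Opens} (a : MSec (G.obj (D.obj j)) U),
      (φ.val.app (op U) ((c'.ι.app j).val.app (op U) a)).1 = (c.ι.app j).val.app (op U) a.1 := fun j U a =>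
    congrArg Subtype.val (congrArg (fun ψ => ψ.val.app (op U) a) (hc'.fac (G.mapCocone c) j))
  haveI : IsIso φ := FCohLib.isIso_of_bijective_basis φ fun U p hp => by
    obtain ⟨V, hV, hpV, hVU⟩ := Opens.isBasis_iff_nbhd.mp (𝔛.X 0).isBasis_affineOpens hp
    refine ⟨V, hVU, hpV, ⟨?_, fun t => ?_⟩⟩
    · refine (injective_iff_map_eq_zero _).2 fun w hw => ?_
      obtain ⟨j, a, ha⟩ := IndCohLib.stage_section hloc hc' hV.isCompact w
      have h0 : (c.ι.app j).val.app (op V) a.1 = 0 := by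
        rw [← hfac j a, ha, hw]
        rfl
      obtain ⟨k, f, hk⟩ := IndCohLib.stage_eq hloc hc hV.isCompact a.1 h0
      refine ha.symm.trans ((IndCohLib.app_comp hloc ((D ⋙ G).map f) (c'.ι.app k) _ (c'.w f) a).symm.trans ?_)
      refine (congrArg ((c'.ι.app k).val.app (op V)) ?_).trans (map_zero _)
      exact Subtype.ext hk
    · obtain ⟨n, hn⟩ := IndCohLib.exists_killed hloc hV.isCompact ((IndCohLib.tors_iff hloc t.1).1 t.2)
      obtain ⟨σ, _, z, hz0, hz⟩ := IndCohLib.exists_ker_gens hloc hV n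
      obtain ⟨i, u, hu⟩ := IndCohLib.stage_section hloc hc hV.isCompact t.1
      obtain ⟨k, f, hf⟩ := exists_stage_killed hloc hc hV.isCompact z u (fun l => by
        rw [hu]
        have h1 := hn V le_rfl (z l) (hz0 l)
        rwa [IndCohLib.mres_self] at h1)
      have hK : IndCohLib.Killed hloc n (D.obj k) ((D.map f).val.app (op V) u) :=
        IndCohLib.killed_of_gens hloc le_rfl z hz _ fun l => by
          rw [IndCohLib.rres_self]
          exact hf l
      refine ⟨(c'.ι.app k).val.app (op V) ⟨(D.map f).val.app (op V) u,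
        (IndCohLib.tors_iff hloc _).2 (hK.tors hloc)⟩, Subtype.ext ?_⟩
      refine (hfac k _).trans ?_
      exact (IndCohLib.app_comp hloc (D.map f) (c.ι.app k) _ (c.w f) u).trans hu
  exact ⟨IsColimit.ofPointIso (i := ‹IsIso φ›) hc'⟩

include hloc in
theorem preservesCoproducts_gammaT (ι : Type u) :
    PreservesColimitsOfShape (Discrete ι) (FTors.gammaT 𝔛 hloc.1) := by
  haveI : HasFiniteBiproducts (ModF 𝔛 hloc.1) := HasFiniteBiproducts.of_hasFiniteProducts
  haveI : PreservesFiniteBiproducts (FTors.gammaT 𝔛 hloc.1) := Functor.preservesFiniteBiproductsOfAdditive _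
  haveI : PreservesFiniteCoproducts (FTors.gammaT 𝔛 hloc.1) :=
    ⟨fun n => preservesCoproductsOfShape_of_preservesBiproductsOfShape _⟩
  haveI := preservesFilteredColimit_gammaT hloc (J := Finset (Discrete ι))
  exact FiltSectLib.preservesColimitsOfShape_discrete _ ι

/-- Coproducts of injective modules are divisible. -/
theorem isDiv_coproduct {ι : Type u} (E : Discrete ι ⥤ ModF 𝔛 hloc.1) (k : Cocone E) (hk : IsColimit k)
    (hE : ∀ j, Injective (E.obj j)) : IsDiv hloc k.pt := by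
  let cc := CoproductsFromFiniteFiltered.liftToFinsetColimitCocone E
  refine isDiv_of_iso hloc (cc.isColimit.coconePointUniqueUpToIso hk) ?_
  refine isDiv_colimit (J := Finset (Discrete ι)) hloc
    (c := colimit.cocone (CoproductsFromFiniteFiltered.liftToFinsetObj E)) (colimit.isColimit _) fun S => ?_
  haveI : ∀ x : S, Injective (E.obj x.1) := fun x => hE x.1
  haveI : HasFiniteBiproducts (ModF 𝔛 hloc.1) := HasFiniteBiproducts.of_hasFiniteProducts
  haveI : Injective (⨁ fun x : S => E.obj x.1) := Injective.of_iso (biproduct.isoProduct _).symm inferInstance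
  haveI : Injective ((CoproductsFromFiniteFiltered.liftToFinsetObj E).obj S) :=
    Injective.of_iso (biproduct.isoCoproduct fun x : S => E.obj x.1) inferInstance
  exact isDiv_of_injective hloc _

end DTorsLib

end
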