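import Groth.Agent.DTorsLib.InjExtend
import Groth.Agent.IndCohLib.TorsBasic

/-!
# Torsion sections of injective modules are divisible up to bounded torsion
-/

set_option autoImplicit false
set_option linter.style.haveILetI false
set_option maxHeartbeats 800000

universe u

open CategoryTheory CategoryTheory.Limits AlgebraicGeometry TopologicalSpace Opposite FSch
open FModLib (MSec RSec mres rres lc oK)

noncomputable section

namespace DTorsLib

theorem exists_stable_colon {R : Type u} [CommRing R] [IsNoetherianRing R] (J : Ideal R) (t : R) :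
    ∃ N, ∀ n a, t ^ (N + n) * a ∈ J → t ^ N * a ∈ J := by
  let f : ℕ →o Ideal R :=
    ⟨fun k => Submodule.comap (LinearMap.mulLeft R (t ^ k)) J, fun k l hkl a (ha : t ^ k * a ∈ J) => by
      show t ^ l * a ∈ J
      rw [show l = (l - k) + k by omega, pow_add, mul_assoc]
      exact J.mul_mem_left _ ha⟩
  obtain ⟨N, hN⟩ := monotone_stabilizes_iff_noetherian.2 inferInstance f
  exact ⟨N, fun n a ha => (hN (N + n) (Nat.le_add_right N n)).ge (show a ∈ f (N + n) from ha)⟩

variable {𝔛 : Sys.{u}} (hloc : 𝔛.IsLocNoethFormal)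

/-- A section killed by some functions, multiplied by a bounded power of another function, is a multiple of any higher
power by a section killed by the same functions. -/
theorem exists_divide {V : (𝔛.X 0).Opens} (hV : IsAffineOpen V) {σ : Type u} [Fintype σ]
    (z : σ → RSec (𝔛.Osh hloc.1) V) (t : RSec (𝔛.Osh hloc.1) V) :
    ∃ N : ℕ, ∀ (M : ModF 𝔛 hloc.1) [Injective M] (W : (𝔛.X 0).Opens) (hW : W ≤ V) (s : MSec M W),
      (∀ l, (rres (𝔛.Osh hloc.1) hW (z l) • s : MSec M W) = 0) → ∀ n : ℕ, ∃ y : MSec M W,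
        (∀ l, (rres (𝔛.Osh hloc.1) hW (z l) • y : MSec M W) = 0) ∧
          (rres (𝔛.Osh hloc.1) hW t ^ (N + n) • y : MSec M W) =
            (rres (𝔛.Osh hloc.1) hW t ^ N • s : MSec M W) := by
  classical
  obtain ⟨-, hNoeth, -⟩ := FCohLib.exists_adic hloc hV
  obtain ⟨N, hN⟩ := exists_stable_colon (Ideal.span (Set.range z)) t
  refine ⟨N, fun M _ W hW s hs n => ?_⟩
  let O := 𝔛.Osh hloc.1
  let ρ : RSec O V →+* RSec O W := (O.obj.map (homOfLE hW).op).hom
  let tt : Option σ → RSec O W := fun i => i.elim (ρ t ^ (N + n)) fun l => ρ (z l)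
  let ss : Option σ → MSec M W := fun i => i.elim (ρ t ^ N • s : MSec M W) fun _ => 0
  obtain ⟨y, hy⟩ := exists_smul_eq_of_injective tt ss fun W' hW' c hc => by
    have hW'V := hW'.trans hW
    let ρ' : RSec O V →+* RSec O W' := (O.obj.map (homOfLE hW'V).op).hom
    let ρ₁ : RSec O W →+* RSec O W' := (O.obj.map (homOfLE hW').op).hom
    have hρ : ∀ a, ρ₁ (ρ a) = ρ' a := fun a => FModLib.rres_rres hW' hW a
    have hs' : ∀ l, (ρ' (z l) • mres M hW' s : MSec M W') = 0 := fun l =>
      (congrArg (fun q : RSec O W' => (q • mres M hW' s : MSec M W')) (hρ (z l)).symm).trans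
        ((IndCohLib.mres_smul hloc hW' _ s).symm.trans ((congrArg (mres M hW') (hs l)).trans (map_zero _)))
    suffices h : ((c none * ρ' t ^ N) • mres M hW' s : MSec M W') = 0 by
      refine (Fintype.sum_option fun i => (c i • mres M hW' (ss i) : MSec M W')).trans ?_
      refine (congrArg₂ (fun p q => p + q) ?_ (Finset.sum_eq_zero fun l _ => ?_)).trans (add_zero _)
      · refine (congrArg (fun q : MSec M W' => (c none • q : MSec M W')) (IndCohLib.mres_smul hloc hW' _ s)).trans ?_
        refine ((mul_smul _ _ _).symm.trans ?_).trans h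
        rw [show rres O hW' (ρ t ^ N) = ρ' t ^ N from (map_pow ρ₁ _ N).trans (congrArg (fun q => q ^ N) (hρ t))]
      · exact (congrArg (fun q : MSec M W' => (c (some l) • q : MSec M W')) (map_zero _)).trans (smul_zero _)
    refine FCohLib.eq_zero_of_points M _ fun p hp => ?_
    obtain ⟨τ, _, w, hw, hloc'⟩ := FCohLib.exists_local_solution hloc hV
      (fun (_ : PUnit.{u + 1}) (_ : PUnit.{u + 1}) => t ^ (N + n)) (fun (l : σ) (_ : PUnit.{u + 1}) => z l)
    obtain ⟨W'', hW'', b, hpW, hb⟩ := hloc' W' hW'V (fun _ => c none) (fun l => -c (some l)) (fun _ => by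
      have h1 := hc
      rw [Fintype.sum_option] at h1
      have h2 : c none * ρ' (t ^ (N + n)) + ∑ l, c (some l) * ρ' (z l) = 0 := by
        refine Eq.trans ?_ h1
        refine congrArg₂ (fun p q => p + q) (congrArg (fun q => c none * q) ?_)
          (Finset.sum_congr rfl fun l _ => congrArg (fun q => c (some l) * q) (hρ (z l)).symm)
        show _ = ρ₁ (ρ t ^ (N + n))
        rw [map_pow, map_pow, hρ]
      simp only [Finset.univ_unique, Finset.sum_singleton, neg_mul, Finset.sum_neg_distrib]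
      exact eq_neg_of_add_eq_zero_left h2) p hp
    refine ⟨W'', hW'', hpW, (IndCohLib.mres_smul hloc hW'' _ _).trans ?_⟩
    let ρ₂ : RSec O W' →+* RSec O W'' := (O.obj.map (homOfLE hW'').op).hom
    let ρ₃ : RSec O V →+* RSec O W'' := (O.obj.map (homOfLE (hW''.trans hW'V)).op).hom
    have hρ₂ : ∀ a, ρ₂ (ρ' a) = ρ₃ a := fun a => FModLib.rres_rres hW'' hW'V a
    have hkill : ∀ a ∈ Ideal.span (Set.range z), (ρ₃ a • mres M hW'' (mres M hW' s) : MSec M W'') = 0 := by
      intro a ha
      refine Submodule.span_induction ?_ ?_ ?_ ?_ ha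
      · rintro _ ⟨l, rfl⟩
        rw [← hρ₂]
        exact (IndCohLib.mres_smul hloc hW'' _ _).symm.trans ((congrArg (mres M hW'') (hs' l)).trans (map_zero _))
      · exact (congrArg (fun q : RSec O W'' => (q • _ : MSec M W'')) (map_zero ρ₃)).trans (zero_smul _ _)
      · intro a b _ _ ha hb
        rw [map_add, add_smul, ha, hb, add_zero]
      · intro a b _ hb
        rw [smul_eq_mul, map_mul, mul_smul, hb, smul_zero]
    rw [show rres O hW'' (c none * ρ' t ^ N) = ∑ l, b l * (ρ₃ (w l PUnit.unit * t ^ N)) by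
      refine (map_mul ρ₂ _ _).trans ?_
      rw [map_pow, hρ₂, show ρ₂ (c none) = _ from hb PUnit.unit, Finset.sum_mul]
      refine Finset.sum_congr rfl fun l _ => ?_
      rw [map_mul, map_pow, mul_assoc]]
    refine Finset.sum_smul.trans (Finset.sum_eq_zero fun l _ => ?_)
    rw [mul_smul, hkill (w l PUnit.unit * t ^ N) ?_, smul_zero]
    obtain ⟨d, hd⟩ := hw l
    rw [mul_comm]
    refine hN n _ ?_
    have h3 := hd PUnit.unit
    simp only [Finset.univ_unique, Finset.sum_singleton] at h3
    rw [mul_comm, show w l PUnit.unit * t ^ (N + n) = ∑ j, d j * z j from h3]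
    exact Ideal.sum_mem _ fun j _ => Ideal.mul_mem_left _ _ (Ideal.subset_span ⟨j, rfl⟩)
  refine ⟨y, fun l => hy (some l), hy none⟩

/-- A bound for the divisibility of torsion sections of injective modules. -/
def divBound {V : (𝔛.X 0).Opens} (hV : IsAffineOpen V) {σ : Type u} [Fintype σ]
    (z : σ → RSec (𝔛.Osh hloc.1) V) (t : RSec (𝔛.Osh hloc.1) V) : ℕ :=
  (exists_divide hloc hV z t).choose

/-- Sections killed by functions are locally divisible up to bounded torsion, like those of injective modules. -/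
def IsDiv (M : ModF 𝔛 hloc.1) : Prop :=
  ∀ (V : (𝔛.X 0).Opens) (hV : IsAffineOpen V) (σ : Type u) (_ : Fintype σ) (z : σ → RSec (𝔛.Osh hloc.1) V)
    (t : RSec (𝔛.Osh hloc.1) V) (W : (𝔛.X 0).Opens) (hW : W ≤ V) (s : MSec M W),
    (∀ l, (rres (𝔛.Osh hloc.1) hW (z l) • s : MSec M W) = 0) → ∀ (n : ℕ), ∀ p ∈ W,
      ∃ (W' : (𝔛.X 0).Opens) (h : W' ≤ W) (y : MSec M W'), p ∈ W' ∧
        (∀ l, (rres (𝔛.Osh hloc.1) (h.trans hW) (z l) • y : MSec M W') = 0) ∧
        (rres (𝔛.Osh hloc.1) (h.trans hW) t ^ (divBound hloc hV z t + n) • y : MSec M W') =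
          (rres (𝔛.Osh hloc.1) (h.trans hW) t ^ divBound hloc hV z t • mres M h s : MSec M W')

theorem isDiv_of_injective (M : ModF 𝔛 hloc.1) [Injective M] : IsDiv hloc M :=
  fun _ hV _ _ z t W hW s hs n p hp => by
    obtain ⟨y, hy, hy'⟩ := (exists_divide hloc hV z t).choose_spec M W hW s hs n
    refine ⟨W, le_rfl, y, hp, hy, ?_⟩
    rw [IndCohLib.mres_self]
    exact hy'

end DTorsLib

end
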