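import Groth.Agent.FModLib.LocPresFP
import Groth.Agent.ModSiteLib.ExtZero
import Mathlib.CategoryTheory.Preadditive.Injective.Basic

/-!
# Prescribing products of a section of an injective sheaf of modules
-/

set_option autoImplicit false
set_option linter.style.haveILetI false

universe u

open CategoryTheory CategoryTheory.Limits TopologicalSpace Opposite
open FModLib (MSec RSec mres rres lc oTop)

noncomputable section

namespace DTorsLib

variable {X : TopCat.{u}} {O : Sheaf (Opens.grothendieckTopology X) CommRingCat.{u}}

theorem injective_restr (M : ModSite.Mod O) [Injective M] (U : Opens X) :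
    Injective ((ModSite.restr O U).obj M) :=
  haveI := _root_.ModSiteLib.preservesMonomorphisms_extZero O U
  Injective.injective_of_adjoint (ModSite.extZeroAdj O U) M

/-- In an injective module, sections compatible with the relations of some functions are their multiples of one
section. -/
theorem exists_smul_eq_of_injective {M : ModSite.Mod O} [Injective M] {U : Opens X} {ι : Type u} [Fintype ι]
    (t : ι → RSec O U) (s : ι → MSec M U)
    (h : ∀ (V : Opens X) (hV : V ≤ U) (c : ι → RSec O V),
      ∑ i, c i * rres O hV (t i) = 0 → lc M hV s c = 0) :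
    ∃ y : MSec M U, ∀ i, (t i • y : MSec M U) = s i := by
  let A := FModLib.πOf (ModSite.unit O) t
  let B := FModLib.πOf M s
  have h0 : kernel.ι A ≫ B = 0 := by
    refine SheafOfModules.hom_ext (PresheafOfModules.hom_ext fun Z => ModuleCat.hom_ext (LinearMap.ext fun z => ?_))
    let w := (kernel.ι A).val.app Z z
    show B.val.app Z w = 0
    have hw : A.val.app Z w = 0 :=
      congr($(congrArg (fun g : kernel A ⟶ _ => g.val.app Z) (kernel.condition A)) z)
    refine (FModLib.app_π M B Z.unop w).trans ?_
    rw [show FModLib.genSec M B = s from funext fun i => FModLib.ev_πOf M s i]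
    refine h Z.unop.left Z.unop.hom.le _ ?_
    have h1 := (FModLib.app_π (ModSite.unit O) A Z.unop w).symm.trans hw
    rw [show FModLib.genSec (ModSite.unit O) A = t from funext fun i => FModLib.ev_πOf (ModSite.unit O) t i] at h1
    exact h1
  haveI := injective_restr M U
  let B' := cokernel.desc (kernel.ι A) B h0
  let m := Abelian.factorThruCoimage A
  let ψ := Injective.factorThru B' m
  have hfac : A ≫ ψ = B := by
    conv_lhs => rw [← Abelian.coimage.fac A]
    rw [Category.assoc, Injective.comp_factorThru]
    exact cokernel.π_desc _ _ _
  refine ⟨ψ.val.app (op (oTop U)) (1 : RSec O U), fun i => ?_⟩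
  refine Eq.trans ?_ (FModLib.ev_πOf M s i)
  refine Eq.trans ?_ (congrArg (fun g => FModLib.ev (SheafOfModules.ιFree i ≫ g)) hfac)
  refine Eq.trans ?_ (congrArg (ψ.val.app (op (oTop U))) (FModLib.ev_πOf (ModSite.unit O) t i).symm)
  refine ((ψ.val.app (op (oTop U))).hom.map_smul (t i) (1 : RSec O U)).symm.trans ?_
  exact congrArg (ψ.val.app (op (oTop U))) (mul_one (t i))

end DTorsLib

end
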