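import Groth.Agent.DTorsLib.OpenExt
import Groth.Agent.IndCohLib.Ind
import Mathlib.CategoryTheory.Functor.OfSequence
import Mathlib.CategoryTheory.Limits.Preserves.FunctorCategory
import Mathlib.CategoryTheory.Abelian.GrothendieckAxioms.Basic

/-!
# Localisation of modules at a function over an open subset
-/

set_option autoImplicit false
set_option linter.style.haveILetI false
set_option maxHeartbeats 800000

universe u

open CategoryTheory CategoryTheory.Limits AlgebraicGeometry TopologicalSpace Opposite FSch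
open FModLib (MSec RSec mres rres lc)

noncomputable section

namespace DTorsLib

variable {𝔛 : Sys.{u}} (hloc : 𝔛.IsLocNoethFormal) {U : (𝔛.X 0).Opens}

variable {M N : ModF 𝔛 hloc.1}

/-- Being good only depends on the sections below the open. -/
theorem good_iff_of_bijective (f : M ⟶ N) (hf : ∀ W : (𝔛.X 0).Opens, W ≤ U → Function.Bijective (f.val.app (op W))) :
    IndCohLib.Good hloc M U ↔ IndCohLib.Good hloc N U := by
  classical
  let g : MSec N U → MSec M U := Function.surjInv (hf U le_rfl).2
  have hg : ∀ y, f.val.app (op U) (g y) = y := Function.surjInv_eq (hf U le_rfl).2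
  constructor
  · intro h
    refine ⟨h.affine, fun W hW x q hq => ?_, fun k _ φ W hW c hc q hq => ?_⟩
    · obtain ⟨y, rfl⟩ := (hf W hW).2 x
      obtain ⟨W', hW', k, _, φ, c, hq', hc⟩ := h.gen W hW y q hq
      refine ⟨W', hW', k, inferInstance, fun i => f.val.app (op U) (φ i), c, hq', ?_⟩
      exact (IndCohLib.app_mres hloc f hW' y).symm.trans
        ((congrArg (f.val.app (op W')) hc).trans (FCohLib.app_lc f _ φ c))
    · obtain ⟨W', hW', Z, d, hq', hZ, hd⟩ := h.rel k (fun i => g (φ i)) W hW c
        ((hf W hW).1 ((FCohLib.app_lc f hW _ c).trans ((congrArg (fun e => lc N hW e c)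
          (funext fun i => hg (φ i))).trans (hc.trans (map_zero _).symm)))) q hq
      refine ⟨W', hW', Z, d, hq', fun z hz => ?_, hd⟩
      refine Eq.trans ?_ ((congrArg (f.val.app (op U)) (hZ z hz)).trans (map_zero _))
      exact (congrArg (fun e => lc N le_rfl e z) (funext fun i => (hg (φ i)).symm)).trans (FCohLib.app_lc f _ _ z).symm
  · intro h
    refine ⟨h.affine, fun W hW x q hq => ?_, fun k _ φ W hW c hc q hq => ?_⟩
    · obtain ⟨W', hW', k, _, φ, c, hq', hc⟩ := h.gen W hW (f.val.app (op W) x) q hq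
      refine ⟨W', hW', k, inferInstance, fun i => g (φ i), c, hq', (hf W' (hW'.trans hW)).1 ?_⟩
      refine (IndCohLib.app_mres hloc f hW' x).trans (hc.trans ?_)
      exact (congrArg (fun e => lc N _ e c) (funext fun i => (hg (φ i)).symm)).trans (FCohLib.app_lc f _ _ c).symm
    · obtain ⟨W', hW', Z, d, hq', hZ, hd⟩ := h.rel k (fun i => f.val.app (op U) (φ i)) W hW c
        ((FCohLib.app_lc f hW _ c).symm.trans ((congrArg (f.val.app (op W)) hc).trans (map_zero _))) q hq
      refine ⟨W', hW', Z, d, hq', fun z hz => (hf U le_rfl).1 ?_, hd⟩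
      exact (FCohLib.app_lc f le_rfl _ z).trans ((hZ z hz).trans (map_zero _).symm)

variable (U)

/-- Restriction to the open followed by extension by zero. -/
abbrev EF : ModF 𝔛 hloc.1 ⥤ ModF 𝔛 hloc.1 := OpenExt.E (𝔛.Osh hloc.1) U

/-- The map back. -/
abbrev εF : EF hloc U ⟶ 𝟭 (ModF 𝔛 hloc.1) := OpenExt.ε (𝔛.Osh hloc.1) U

variable {U}

theorem εF_bijective {W : (𝔛.X 0).Opens} (hW : W ≤ U) (M : ModF 𝔛 hloc.1) :
    Function.Bijective (((εF hloc U).app M).val.app (op W)) :=
  ⟨OpenExt.ε_injective hW, OpenExt.ε_surjective hW⟩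

theorem good_EF_iff (M : ModF 𝔛 hloc.1) :
    IndCohLib.Good hloc ((EF hloc U).obj M) U ↔ IndCohLib.Good hloc M U :=
  good_iff_of_bijective hloc ((εF hloc U).app M) fun _ hW => εF_bijective hloc hW M

theorem ε_map (f : M ⟶ N) {W : (𝔛.X 0).Opens} (x : MSec ((EF hloc U).obj M) W) :
    ((εF hloc U).app N).val.app (op W) (((EF hloc U).map f).val.app (op W) x) =
      f.val.app (op W) (((εF hloc U).app M).val.app (op W) x) :=
  congr($(congrArg (fun θ => SheafOfModules.Hom.val θ |>.app (op W)) ((εF hloc U).naturality f)) x)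

theorem epi_EF_map (f : M ⟶ N) [Epi f] : Epi ((EF hloc U).map f) := by
  refine ⟨fun {P} a b hab => OpenExt.hom_ext fun W hW x => ?_⟩
  refine sub_eq_zero.1 (FCohLib.eq_zero_of_points P _ fun p hp => ?_)
  obtain ⟨W', h', y, hp', hy⟩ := IndCohLib.exists_loc_lift hloc f (((εF hloc U).app N).val.app (op W) x) hp
  let z : MSec ((EF hloc U).obj M) W' := OpenExt.sec (h'.trans hW) y
  have hz : ((EF hloc U).map f).val.app (op W') z = mres _ h' x := (εF_bijective hloc (h'.trans hW) N).1
    ((ε_map hloc f z).trans ((congrArg (f.val.app (op W')) (OpenExt.ε_sec (h'.trans hW) y)).trans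
      (hy.trans (IndCohLib.app_mres hloc ((εF hloc U).app N) h' x).symm)))
  refine ⟨W', h', hp', (map_sub _ _ _).trans (sub_eq_zero.2 ?_)⟩
  refine (IndCohLib.app_mres hloc a h' x).symm.trans (Eq.trans ?_ (IndCohLib.app_mres hloc b h' x))
  refine (congrArg (a.val.app (op W')) hz).symm.trans (Eq.trans ?_ (congrArg (b.val.app (op W')) hz))
  exact congr($(congrArg (fun g : (EF hloc U).obj M ⟶ P => g.val.app (op W')) hab) z)

instance preservesFiniteLimits_EF : PreservesFiniteLimits (EF hloc U) :=
  OpenExt.preservesFiniteLimits_E _ _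

instance preservesEpimorphisms_EF : (EF hloc U).PreservesEpimorphisms :=
  ⟨fun f _ => epi_EF_map hloc f⟩

instance preservesFiniteColimits_EF : PreservesFiniteColimits (EF hloc U) :=
  haveI : (EF hloc U).PreservesHomology := Functor.preservesHomology_of_preservesEpis_and_kernels _
  Functor.preservesFiniteColimits_of_preservesHomology _

variable (t : RSec (𝔛.Osh hloc.1) U)

/-- The sequence whose colimit is the localisation. -/
def diag : ModF 𝔛 hloc.1 ⥤ AsSmall.{u} ℕ ⥤ ModF 𝔛 hloc.1 where
  obj M := AsSmall.down ⋙ Functor.ofSequence (X := fun _ : ℕ => (EF hloc U).obj M) fun _ => (OpenExt.τ t).app M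
  map {M N} f := Functor.whiskerLeft AsSmall.down (NatTrans.ofSequence (fun _ => (EF hloc U).map f) fun n => by
    rw [Functor.ofSequence_map_homOfLE_succ, Functor.ofSequence_map_homOfLE_succ]
    exact ((OpenExt.τ t).naturality f).symm)
  map_id M := by ext n : 2; exact (EF hloc U).map_id M
  map_comp f g := by ext n : 2; exact (EF hloc U).map_comp f g

/-- Localisation at a function on the open. -/
def Loc : ModF 𝔛 hloc.1 ⥤ ModF 𝔛 hloc.1 := diag hloc t ⋙ colim

/-- The localisation map. -/
def locMap : EF hloc U ⟶ Loc hloc t where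
  app M := colimit.ι ((diag hloc t).obj M) (AsSmall.up.obj 0)
  naturality M N f := (ι_colimMap ((diag hloc t).map f) (AsSmall.up.obj 0)).symm

theorem diag_eval (n : AsSmall.{u} ℕ) :
    Nonempty (diag hloc t ⋙ (evaluation (AsSmall.{u} ℕ) (ModF 𝔛 hloc.1)).obj n ≅ EF hloc U) :=
  ⟨NatIso.ofComponents (fun _ => Iso.refl _) fun f => (Category.comp_id _).trans (Category.id_comp _).symm⟩

instance preservesFiniteLimits_diag : PreservesFiniteLimits (diag hloc t) :=
  ⟨fun J _ _ => preservesLimitsOfShape_of_evaluation _ J fun n =>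
    preservesLimitsOfShape_of_natIso (diag_eval hloc t n).some.symm⟩

instance preservesFiniteColimits_diag : PreservesFiniteColimits (diag hloc t) :=
  ⟨fun J _ _ => preservesColimitsOfShape_of_evaluation _ J fun n =>
    preservesColimitsOfShape_of_natIso (diag_eval hloc t n).some.symm⟩

instance preservesFiniteLimits_Loc : PreservesFiniteLimits (Loc hloc t) :=
  haveI : PreservesFiniteLimits (colim (J := AsSmall.{u} ℕ) (C := ModF 𝔛 hloc.1)) :=
    HasExactColimitsOfShape.preservesFiniteLimits
  comp_preservesFiniteLimits _ _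

instance preservesFiniteColimits_Loc : PreservesFiniteColimits (Loc hloc t) :=
  haveI : PreservesFiniteColimits (colim (J := AsSmall.{u} ℕ) (C := ModF 𝔛 hloc.1)) :=
    haveI : PreservesColimitsOfSize.{0, 0} (colim (J := AsSmall.{u} ℕ) (C := ModF 𝔛 hloc.1)) :=
      (colimConstAdj (J := AsSmall.{u} ℕ) (C := ModF 𝔛 hloc.1)).leftAdjoint_preservesColimits
    PreservesColimitsOfSize.preservesFiniteColimits _
  comp_preservesFiniteColimits _ _

instance additive_diag : (diag hloc t).Additive where
  map_add {M N f g} := by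
    ext n : 2
    exact (EF hloc U).map_add

instance additive_Loc : (Loc hloc t).Additive :=
  inferInstanceAs (diag hloc t ⋙ colim).Additive

theorem ε_diag_map {W : (𝔛.X 0).Opens} (hW : W ≤ U) (i m : ℕ) (x : MSec ((EF hloc U).obj M) W) :
    ((εF hloc U).app M).val.app (op W)
        (((Functor.ofSequence (X := fun _ : ℕ => (EF hloc U).obj M) fun _ => (OpenExt.τ t).app M).map
          (homOfLE (Nat.le_add_right i m))).val.app (op W) x) =
      (rres (𝔛.Osh hloc.1) hW t ^ m • ((εF hloc U).app M).val.app (op W) x : MSec M W) := by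
  let S := Functor.ofSequence (X := fun _ : ℕ => (EF hloc U).obj M) fun _ => (OpenExt.τ t).app M
  induction m with
  | zero =>
    rw [pow_zero, one_smul]
    exact congrArg (((εF hloc U).app M).val.app (op W)) (congr($(congrArg (fun g => SheafOfModules.Hom.val g |>.app (op W))
      (S.map_id i)) x))
  | succ m ih =>
    have e : S.map (homOfLE (Nat.le_add_right i (m + 1))) =
        S.map (homOfLE (Nat.le_add_right i m)) ≫ (OpenExt.τ t).app M := by
      rw [show homOfLE (Nat.le_add_right i (m + 1)) =
        homOfLE (Nat.le_add_right i m) ≫ homOfLE (Nat.le_succ (i + m)) from rfl, Functor.map_comp]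
      exact congrArg (fun q => S.map (homOfLE (Nat.le_add_right i m)) ≫ q)
        (Functor.ofSequence_map_homOfLE_succ (fun _ => (OpenExt.τ t).app M) (i + m))
    rw [e]
    refine (OpenExt.ε_τ t hW _).trans ?_
    rw [pow_succ', mul_smul]
    exact congrArg (fun q : MSec M W => (rres (𝔛.Osh hloc.1) hW t • q : MSec M W)) ih

/-- A section dies in the localisation when it is locally killed by a power of the function. -/
theorem locMap_eq_zero {W : (𝔛.X 0).Opens} (hW : W ≤ U) (m : ℕ) (x : MSec ((EF hloc U).obj M) W)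
    (hx : (rres (𝔛.Osh hloc.1) hW t ^ m • ((εF hloc U).app M).val.app (op W) x : MSec M W) = 0) :
    ((locMap hloc t).app M).val.app (op W) x = 0 := by
  refine (IndCohLib.app_comp hloc _ (colimit.ι ((diag hloc t).obj M) (AsSmall.up.obj (0 + m))) _
    (colimit.w ((diag hloc t).obj M) (AsSmall.up.map (homOfLE (Nat.le_add_right 0 m)))) x).symm.trans ?_
  refine (congrArg _ ?_).trans (map_zero _)
  exact (εF_bijective hloc hW M).1 ((ε_diag_map hloc t hW 0 m x).trans (hx.trans (map_zero _).symm))

/-- Conversely. -/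
theorem exists_pow_of_locMap_eq_zero {W : (𝔛.X 0).Opens} (hW : W ≤ U) (hc : IsCompact (W : Set (𝔛.X 0)))
    (x : MSec ((EF hloc U).obj M) W) (hx : ((locMap hloc t).app M).val.app (op W) x = 0) :
    ∃ m, (rres (𝔛.Osh hloc.1) hW t ^ m • ((εF hloc U).app M).val.app (op W) x : MSec M W) = 0 := by
  obtain ⟨k, a, ha⟩ := IndCohLib.stage_eq hloc (colimit.isColimit ((diag hloc t).obj M)) hc
    (i := AsSmall.up.obj 0) x hx
  refine ⟨AsSmall.down.obj k, ?_⟩
  rw [← ε_diag_map hloc t hW 0 (AsSmall.down.obj k) x]
  refine (congrArg (((εF hloc U).app M).val.app (op W)) ?_).trans (map_zero _)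
  have hmap : ∀ (j : ℕ) (e : j = AsSmall.down.obj k) (f : 0 ⟶ j),
      ((Functor.ofSequence (X := fun _ : ℕ => (EF hloc U).obj M) fun _ => (OpenExt.τ t).app M).map f).val.app
        (op W) x = 0 := by
    rintro j rfl f
    rw [Subsingleton.elim f (AsSmall.down.map a)]
    exact ha
  exact hmap _ (Nat.zero_add _) _

theorem good_Loc (h : IndCohLib.Good hloc M U) : IndCohLib.Good hloc ((Loc hloc t).obj M) U :=
  IndCohLib.good_colimit hloc (colimit.isColimit ((diag hloc t).obj M)) h.affine
    fun _ => (good_EF_iff hloc M).2 h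

end DTorsLib

end
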