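import Groth.Agent.ModSiteLib.ExtZero
import Groth.Agent.FModLib.LocPresFP
import Groth.Agent.FCohLib.Closure
import Groth.Agent.ModSiteLib.PullMono

/-!
# Restriction to an open subset followed by extension by zero
-/

set_option autoImplicit false
set_option linter.style.haveILetI false
set_option backward.isDefEq.respectTransparency false
set_option maxHeartbeats 800000

universe u

open CategoryTheory CategoryTheory.Limits TopologicalSpace Opposite
open FModLib (MSec RSec mres rres)
open ModSiteLib (PMod aP jP adjP oLan oRes oLanAdj mfib mι)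

noncomputable section

namespace DTorsLib.OpenExt

variable {X : TopCat.{u}} (O : Sheaf (Opens.grothendieckTopology X) CommRingCat.{u}) (U : Opens X)

/-- Restriction followed by extension by zero. -/
def E : ModSite.Mod O ⥤ ModSite.Mod O := (jP O ⋙ oRes O U) ⋙ oLan O U ⋙ aP O

/-- It is the composite of restriction and extension by zero. -/
def eIso : ModSite.restr O U ⋙ ModSite.extZero O U ≅ E O U :=
  Functor.isoWhiskerLeft _ (_root_.ModSiteLib.extZeroIso O U) ≪≫ (Functor.associator _ _ _).symm ≪≫
    Functor.isoWhiskerRight (_root_.ModSiteLib.restrPreIso O U) (oLan O U ⋙ aP O)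

instance additive_E : (E O U).Additive :=
  Functor.additive_of_iso (eIso O U)

theorem preservesFiniteLimits_E : PreservesFiniteLimits (E O U) :=
  haveI := _root_.ModSiteLib.preservesFiniteLimits_extZero O U
  haveI : PreservesLimitsOfSize.{0, 0} (ModSite.restr O U) :=
    (ModSite.extZeroAdj O U).rightAdjoint_preservesLimits
  haveI : PreservesFiniteLimits (ModSite.restr O U) := PreservesLimitsOfSize.preservesFiniteLimits _
  preservesFiniteLimits_of_natIso (eIso O U)

/-- The map back. -/
def ε : E O U ⟶ 𝟭 (ModSite.Mod O) where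
  app M := ((adjP O).homEquiv _ _).symm ((oLanAdj O U).counit.app ((jP O).obj M))
  naturality M N f := by
    refine ((adjP O).homEquiv_naturality_left_symm _ _).symm.trans
      (Eq.trans ?_ ((adjP O).homEquiv_naturality_right_symm _ _))
    exact congrArg ((adjP O).homEquiv _ _).symm ((oLanAdj O U).counit.naturality ((jP O).map f))

variable {O U} {M N : ModSite.Mod O}

/-- The section of the extension by zero coming from a section below the open. -/
def sec {W : Opens X} (h : W ≤ U) (y : MSec M W) : MSec ((E O U).obj M) W :=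
  ((adjP O).unit.app ((oLan O U).obj ((oRes O U).obj ((jP O).obj M)))).app (op W)
    (mι ((oRes O U).obj ((jP O).obj M)) (op W) (homOfLE h) y)

theorem ε_sec {W : Opens X} (h : W ≤ U) (y : MSec M W) : ((ε O U).app M).val.app (op W) (sec h y) = y := by
  have h1 : (adjP O).unit.app ((oLan O U).obj ((oRes O U).obj ((jP O).obj M))) ≫ (jP O).map ((ε O U).app M) =
      (oLanAdj O U).counit.app ((jP O).obj M) :=
    ((adjP O).homEquiv_unit _ _ _).symm.trans (((adjP O).homEquiv _ _).apply_symm_apply _)
  refine Eq.trans (congr($(congrArg (fun φ => PresheafOfModules.Hom.app φ (op W)) h1)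
    (mι ((oRes O U).obj ((jP O).obj M)) (op W) (homOfLE h) y))) ?_
  have h2 : mι ((oRes O U).obj ((jP O).obj M)) (op W) (homOfLE h) ≫
      ((oLanAdj O U).counit.app ((jP O).obj M)).app (op W) = _ := Sigma.ι_desc _ (homOfLE h)
  exact congr($(h2).hom y)

theorem exists_fib {W : Opens X} (G : PMod (O.over U)) (h : W ≤ U)
    (z : ((oLan O U).obj G).obj (op W)) : ∃ y, mι G (op W) (homOfLE h) y = z := by
  let d : (∐ mfib G (op W)) ⟶ mfib G (op W) (homOfLE h) := Sigma.desc fun g => eqToHom (by
    rw [Subsingleton.elim g (homOfLE h)])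
  have e : d ≫ mι G (op W) (homOfLE h) = 𝟙 _ := Sigma.hom_ext _ _ fun g => by
    obtain rfl : g = homOfLE h := Subsingleton.elim _ _
    rw [← Category.assoc, Sigma.ι_desc]
    simp
  exact ⟨d z, congr($(e).hom z)⟩

theorem exists_loc_sec {W : Opens X} (h : W ≤ U) (x : MSec ((E O U).obj M) W) {p : X} (hp : p ∈ W) :
    ∃ (W' : Opens X) (h' : W' ≤ W) (y : MSec M W'), p ∈ W' ∧ sec (h'.trans h) y = mres _ h' x := by
  let P := (oLan O U).obj ((oRes O U).obj ((jP O).obj M))
  have hW := _root_.ModSiteLib.W_unit O P
  rw [GrothendieckTopology.W_iff_isLocallyBijective] at hW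
  haveI := hW.2
  obtain ⟨W', g, ⟨z, hz⟩, hpW⟩ := FCohLib.exists_of_loc_opens
    (_root_.ModSiteLib.loc_of_isLocallySurjective ((adjP O).unit.app P) (V := W) x) hp
  obtain ⟨y, hy⟩ := exists_fib ((oRes O U).obj ((jP O).obj M)) (g.le.trans h) z
  exact ⟨W', g.le, y, hpW, (congrArg (((adjP O).unit.app P).app (op W')) hy).trans hz⟩

theorem app_mres' {A B : ModSite.Mod O} (θ : A ⟶ B) {W V : Opens X} (h : W ≤ V) (x : MSec A V) :
    θ.val.app (op W) (mres A h x) = mres B h (θ.val.app (op V) x) :=
  PresheafOfModules.naturality_apply θ.val (homOfLE h).op x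

theorem ε_injective {W : Opens X} (h : W ≤ U) : Function.Injective (((ε O U).app M).val.app (op W)) := by
  refine (injective_iff_map_eq_zero _).2 fun x hx => FCohLib.eq_zero_of_points _ x fun p hp => ?_
  obtain ⟨W', h', y, hp', hy⟩ := exists_loc_sec h x hp
  refine ⟨W', h', hp', ?_⟩
  have hy0 : y = 0 := by
    rw [← ε_sec (h'.trans h) y, hy, app_mres', hx]
    exact map_zero _
  rw [← hy, hy0]
  exact (congrArg _ (map_zero _)).trans (map_zero _)

theorem ε_surjective {W : Opens X} (h : W ≤ U) : Function.Surjective (((ε O U).app M).val.app (op W)) :=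
  fun y => ⟨sec h y, ε_sec h y⟩

/-- Maps out of the extension by zero are determined below the open. -/
theorem hom_ext {φ ψ : (E O U).obj M ⟶ N}
    (h : ∀ (W : Opens X), W ≤ U → ∀ x : MSec ((E O U).obj M) W, φ.val.app (op W) x = ψ.val.app (op W) x) :
    φ = ψ := by
  refine ((adjP O).homEquiv _ _).injective (PresheafOfModules.hom_ext fun W => Sigma.hom_ext _ _ fun g => ?_)
  refine ModuleCat.hom_ext (LinearMap.ext fun y => ?_)
  rw [(adjP O).homEquiv_unit, (adjP O).homEquiv_unit]
  exact h W.unop g.le (sec g.le y)

variable (t : RSec O U)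

/-- Multiplication by a function on the restriction. -/
def mul : jP O ⋙ oRes O U ⟶ jP O ⋙ oRes O U where
  app M :=
    { app := fun W => ModuleCat.ofHom
        (rres O W.unop.hom.le t • (LinearMap.id : ((oRes O U).obj ((jP O).obj M)).obj W →ₗ[_] _))
      naturality := fun {W W'} k => by
        ext x
        refine Eq.trans ?_ (PresheafOfModules.map_smul ((oRes O U).obj ((jP O).obj M)) k (rres O W.unop.hom.le t) x).symm
        refine congrArg (fun a : (O.over U).obj.obj W' => (a • (((oRes O U).obj ((jP O).obj M)).map k) x :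
          ((oRes O U).obj ((jP O).obj M)).obj W')) ?_
        exact (FModLib.rres_rres k.unop.left.le W.unop.hom.le t).symm }
  naturality M N f := by
    ext W : 1
    refine ModuleCat.hom_ext (LinearMap.ext fun x => ?_)
    exact (((f.val.app (op W.unop.left))).hom.map_smul (rres O W.unop.hom.le t) x).symm

/-- Multiplication by a function on the extension by zero. -/
def τ : E O U ⟶ E O U := Functor.whiskerRight (mul t) (oLan O U ⋙ aP O)

theorem τ_sec {W : Opens X} (h : W ≤ U) (y : MSec M W) :
    ((τ t).app M).val.app (op W) (sec h y) = sec h (rres O h t • y : MSec M W) := by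
  let G := (oRes O U).obj ((jP O).obj M)
  have h1 := congr($(congrArg (fun φ => PresheafOfModules.Hom.app φ (op W))
    ((adjP O).unit.naturality ((oLan O U).map ((mul t).app M)))) (mι G (op W) (homOfLE h) y))
  refine h1.symm.trans ?_
  have h2 : mι G (op W) (homOfLE h) ≫ (Limits.Sigma.map fun g => ((mul t).app M).app (op (Over.mk g)) :
      (∐ mfib G (op W)) ⟶ ∐ mfib G (op W)) =
      ((mul t).app M).app (op (Over.mk (homOfLE h))) ≫ mι G (op W) (homOfLE h) := Limits.Sigma.ι_map _ _
  exact congrArg (((adjP O).unit.app ((oLan O U).obj G)).app (op W)) (congr($(h2).hom y))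

theorem ε_τ {W : Opens X} (h : W ≤ U) (x : MSec ((E O U).obj M) W) :
    ((ε O U).app M).val.app (op W) (((τ t).app M).val.app (op W) x) =
      (rres O h t • ((ε O U).app M).val.app (op W) x : MSec M W) := by
  obtain ⟨y, rfl⟩ : ∃ y, sec h y = x :=
    ⟨_, ε_injective h (ε_sec h (((ε O U).app M).val.app (op W) x))⟩
  rw [τ_sec, ε_sec, ε_sec]

/-- The extension by zero only depends on the sections below the open. -/
theorem isIso_E_map (f : M ⟶ N) (hf : ∀ W : Opens X, W ≤ U → Function.Bijective (f.val.app (op W))) :
    IsIso ((E O U).map f) := by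
  refine (NatIso.isIso_map_iff (eIso O U) f).1 ?_
  haveI : ∀ W, IsIso (((ModSite.restr O U).map f).val.app W) := fun W =>
    (ConcreteCategory.isIso_iff_bijective _).2 (hf W.unop.left W.unop.hom.le)
  haveI : IsIso ((ModSite.restr O U).map f).val := by
    refine ⟨⟨⟨fun W => inv (((ModSite.restr O U).map f).val.app W), fun {W W'} k => ?_⟩, ?_, ?_⟩⟩
    · exact (IsIso.eq_inv_comp _).2 (by
        rw [← Category.assoc, ← PresheafOfModules.Hom.naturality, Category.assoc]
        simp)
    · ext W : 1; exact IsIso.hom_inv_id _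
    · ext W : 1; exact IsIso.inv_hom_id _
  haveI : IsIso ((ModSite.restr O U).map f) :=
    @Functor.FullyFaithful.isIso_of_isIso_map _ _ _ _ (SheafOfModules.forget _)
      (SheafOfModules.fullyFaithfulForget _) _ _ ((ModSite.restr O U).map f)
      (inferInstanceAs (IsIso ((ModSite.restr O U).map f).val))
  exact Functor.map_isIso (ModSite.extZero O U) _

end DTorsLib.OpenExt

end
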