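import Groth.Agent.DTorsLib.RgammaCoprod
import Groth.Agent.DTorsLib.Derived
import Mathlib.CategoryTheory.Adjunction.Restrict

/-!
# The derived torsion functor on `D̃_qc` is a left adjoint
-/

set_option autoImplicit false
set_option linter.style.haveILetI false
set_option maxHeartbeats 800000

universe u

open CategoryTheory CategoryTheory.Limits AlgebraicGeometry TopologicalSpace Opposite FSch
open Groth.Agent

noncomputable section

attribute [local instance] HasDerivedCategory.standard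

namespace DTorsLib

variable {𝔛 : Sys.{u}} (hloc : 𝔛.IsLocNoethFormal) [FTors.HasRgammaT 𝔛 hloc.1]

theorem isDQCT_of_iso {E F : DerivedCategory (ModF 𝔛 hloc.1)} (e : E ≅ F) (h : FTors.IsDQCT 𝔛 hloc.1 E) :
    FTors.IsDQCT 𝔛 hloc.1 F := fun n =>
  IndCohLib.isQCT_of_iso hloc ((DerivedCategory.homologyFunctor (ModF 𝔛 hloc.1) n).mapIso e) (h n)

/-- The derived torsion of the right adjoint of derived torsion is the identity on torsion complexes. -/
theorem isIso_counit_app {G : DerivedCategory (ModF 𝔛 hloc.1) ⥤ DerivedCategory (ModF 𝔛 hloc.1)}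
    (adj : FTors.RgammaT 𝔛 hloc.1 ⊣ G) {Z : DerivedCategory (ModF 𝔛 hloc.1)} (hZ : FTors.IsDTorsF 𝔛 hloc.1 Z) :
    IsIso (adj.counit.app Z) := by
  let R := FTors.RgammaT 𝔛 hloc.1
  let ε := FTors.RgammaTε 𝔛 hloc.1
  haveI : IsIso (ε.app Z) := isIso_rgammaTε hloc hZ
  let s : Z ⟶ G.obj Z := adj.homEquiv _ _ (ε.app Z)
  let t : Z ⟶ R.obj (G.obj Z) := inv (ε.app Z) ≫ R.map s
  let ψ := adj.counit.app Z
  have h1 : R.map s ≫ ψ = ε.app Z :=
    (adj.homEquiv_counit Z Z s).symm.trans ((adj.homEquiv _ _).symm_apply_apply (ε.app Z))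
  have h2 : t ≫ ψ = 𝟙 Z :=
    (Category.assoc _ _ _).trans ((congrArg (fun q => inv (ε.app Z) ≫ q) h1).trans (IsIso.inv_hom_id _))
  have h3 : ψ ≫ t = 𝟙 (R.obj (G.obj Z)) := by
    refine (comp_rgammaTε_bijective hloc _ _ (isDTorsF_rgammaT hloc (G.obj Z))).1 ?_
    have e1 : t ≫ ε.app (G.obj Z) = s :=
      (Category.assoc _ _ _).trans ((congrArg (fun q => inv (ε.app Z) ≫ q) (ε.naturality s)).trans
        (IsIso.inv_hom_id_assoc (ε.app Z) s))
    have e2 : ψ ≫ s = ε.app (G.obj Z) := by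
      refine (adj.homEquiv _ _).symm.injective ?_
      rw [adj.homEquiv_counit, adj.homEquiv_counit, R.map_comp, Category.assoc, h1]
      refine (ε.naturality ψ).trans ?_
      exact (congrArg (fun q => q ≫ ψ) (rgammaT_map_ε hloc (G.obj Z))).symm
    show (ψ ≫ t) ≫ ε.app (G.obj Z) = 𝟙 _ ≫ ε.app (G.obj Z)
    exact (Category.assoc _ _ _).trans ((congrArg (fun q => ψ ≫ q) e1).trans (e2.trans (Category.id_comp _).symm))
  exact ⟨t, h3, h2⟩

/-- **The derived torsion functor from `D̃_qc` to `D_qct` has a right adjoint.** -/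
theorem isLeftAdjoint_lift_rgammaT :
    ((FTors.IsDQCT 𝔛 hloc.1).lift ((FTors.IsDQCTilde 𝔛 hloc.1).ι ⋙ FTors.RgammaT 𝔛 hloc.1)
      fun E => E.property).IsLeftAdjoint := by
  haveI := isLeftAdjoint_rgammaT hloc
  let adj := Adjunction.ofIsLeftAdjoint (FTors.RgammaT 𝔛 hloc.1)
  let G := (FTors.RgammaT 𝔛 hloc.1).rightAdjoint
  have hG : ∀ X : (FTors.IsDQCT 𝔛 hloc.1).FullSubcategory,
      FTors.IsDQCTilde 𝔛 hloc.1 (G.obj X.obj) := fun X => by
    haveI := isIso_counit_app hloc adj (fun n => (X.property n).1)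
    exact isDQCT_of_iso hloc (asIso (adj.counit.app X.obj)).symm X.property
  exact (Adjunction.restrictFullyFaithful adj (FTors.IsDQCTilde 𝔛 hloc.1).fullyFaithfulι
    (FTors.IsDQCT 𝔛 hloc.1).fullyFaithfulι
    (R := (FTors.IsDQCTilde 𝔛 hloc.1).lift ((FTors.IsDQCT 𝔛 hloc.1).ι ⋙ G) hG)
    ((FTors.IsDQCT 𝔛 hloc.1).liftCompιIso ((FTors.IsDQCTilde 𝔛 hloc.1).ι ⋙ FTors.RgammaT 𝔛 hloc.1)
      fun E => E.property).symm
    ((FTors.IsDQCTilde 𝔛 hloc.1).liftCompιIso ((FTors.IsDQCT 𝔛 hloc.1).ι ⋙ G) hG).symm).isLeftAdjoint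

end DTorsLib

end
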